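import Groth.Agent.Lib.FunFld.RH.Assembly
import Groth.Agent.S15524

/-!
The Riemann hypothesis for function fields over finite fields.
-/

set_option autoImplicit false

namespace GrothLib.FunFld.RH

open _root_.FunFld GrothLib.FunFld

variable {k K : Type*} [Field k] [Finite k] [Field K] [Algebra k K]

/-- The Riemann hypothesis. -/
theorem norm_sq_reciprocal_root (hK : IsFunctionField k K) (α : Fin (2 * genus k K) → ℂ)
    (hα : PowerSeries.map (Int.castRingHom ℂ) (numerZ k K) =
      ((∏ i, (1 - Polynomial.C (α i) * Polynomial.X) : Polynomial ℂ) : PowerSeries ℂ))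
    (hrev : ∀ i, α i * α (Fin.rev i) = (Nat.card k : ℂ)) (i : Fin (2 * genus k K)) :
    ‖α i‖ ^ 2 = (Nat.card k : ℝ) := by
  obtain ⟨C, d, hd, h⟩ := exists_bound hK
  refine Groth.Agent.S15524.result (Nat.card k) Nat.card_pos α Fin.revPerm (fun j => ?_) d hd C (fun N hN => ?_) i
  · rw [Fin.revPerm_apply, mul_comm, hrev]
  · have h1 := pointSum_eq hK.1 α hα (m := d * N) (Nat.mul_pos hd hN)
    have h2 : ∑ j, α j ^ (d * N) =
        ((((Nat.card k : ℝ) ^ (d * N) + 1 - (pointSum k K (d * N) : ℝ)) : ℝ) : ℂ) := by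
      push_cast; linear_combination h1
    rw [h2, Complex.norm_real, Real.norm_eq_abs, abs_sub_comm]
    have h3 := h N hN
    push_cast at h3
    exact h3

/-- The Hasse–Weil bound for the point counts. -/
theorem abs_pointSum_sub_le (hK : IsFunctionField k K) {m : ℕ} (hm : 1 ≤ m) :
    |(pointSum k K m : ℝ) - ((Nat.card k : ℝ) ^ m + 1)| ≤
      2 * (genus k K : ℝ) * Real.sqrt ((Nat.card k : ℝ) ^ m) := by
  obtain ⟨α, -, hα, hrev⟩ := exists_reciprocal_roots hK
  have h1 := pointSum_eq hK.1 α hα hm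
  have h2 : ((((Nat.card k : ℝ) ^ m + 1 - (pointSum k K m : ℝ)) : ℝ) : ℂ) = ∑ j, α j ^ m := by
    push_cast; linear_combination -h1
  rw [abs_sub_comm, ← Real.norm_eq_abs, ← Complex.norm_real, h2]
  refine (norm_sum_le _ _).trans (le_trans (Finset.sum_le_card_nsmul _ _ _ fun j _ => ?_) (le_of_eq (b :=
    2 * (genus k K : ℝ) * Real.sqrt ((Nat.card k : ℝ) ^ m)) (a := Finset.card (Finset.univ : Finset (Fin (2 * genus k K))) • Real.sqrt ((Nat.card k : ℝ) ^ m)) ?_))
  · rw [norm_pow, ← norm_sq_reciprocal_root hK α hα hrev j, ← pow_mul, mul_comm 2 m, pow_mul,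
      Real.sqrt_sq (by positivity)]
  · rw [Finset.card_univ, Fintype.card_fin, nsmul_eq_mul]; push_cast; ring

theorem pointSum_one (hK : IsFunctionField k K) : pointSum k K 1 = Nat.card {P : Place k K // P.deg = 1} := by
  haveI : Finite {P : Place k K // P.deg = 1} :=
    ((finite_places_deg_le hK.1 1).subset fun P (hP : P.deg = 1) => hP.le).to_subtype
  let e : {P : Place k K // P.deg ∣ 1} ≃ {P : Place k K // P.deg = 1} :=
    Equiv.subtypeEquivRight fun _ => Nat.dvd_one
  haveI := Finite.of_equiv _ e.symm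
  letI := Fintype.ofFinite {P : Place k K // P.deg ∣ 1}
  rw [pointSum, finsum_eq_sum_of_fintype, ← Nat.card_congr e, Nat.card_eq_fintype_card, ← Finset.card_univ,
    Finset.card_eq_sum_ones]
  exact Finset.sum_congr rfl fun P _ => Nat.dvd_one.1 P.2

end GrothLib.FunFld.RH
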