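import Groth.Agent.Lib.FunFld.RH.BarPlaces
import Groth.Agent.Lib.FunFld.Zeta
import Mathlib.RingTheory.PowerSeries.Derivative

/-!
Point counts and the roots of the numerator of the zeta series.
-/

set_option autoImplicit false
set_option linter.style.haveILetI false

namespace GrothLib.FunFld.RH

open _root_.FunFld GrothLib.FunFld

variable {k K : Type*} [Field k] [Finite k] [Field K] [Algebra k K]

/-- `n a_n = ∑ N_m a_{n-m}`. -/
theorem mul_effDivCount (h : IsFG k K) (n : ℕ) :
    n * effDivCount k K n = ∑ m ∈ Finset.Icc 1 n, pointSum k K m * effDivCount k K (n - m) := by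
  classical
  set E : ℕ → Finset (Divisor k K) := fun i => (finite_effDiv h (i : ℤ)).toFinset
  have hE : ∀ i D, D ∈ E i ↔ 0 ≤ D ∧ D.deg = i := fun i D => Set.Finite.mem_toFinset _
  have hcard : ∀ i, effDivCount k K i = (E i).card := fun i =>
    Nat.card_eq_card_finite_toFinset (finite_effDiv h (i : ℤ))
  set S := (finite_places_deg_le h n).toFinset
  have hS : ∀ P, P ∈ S ↔ P.deg ≤ n := fun P => Set.Finite.mem_toFinset _
  have hN : ∀ m ∈ Finset.Icc 1 n, pointSum k K m = ∑ P ∈ S with P.deg ∣ m, P.deg := by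
    intro m hm
    rw [Finset.mem_Icc] at hm
    rw [pointSum, finsum_subtype_eq_finsum_cond (f := fun P : Place k K => P.deg) fun P => P.deg ∣ m]
    refine finsum_mem_eq_sum_of_inter_support_eq _ (s := {P : Place k K | (P : Place k K).deg ∣ m}) ?_
    ext P
    simp only [Set.mem_inter_iff, Set.mem_setOf_eq, Finset.coe_filter, Function.mem_support]
    exact ⟨fun ⟨h1, h2⟩ => ⟨⟨(hS P).2 ((Nat.le_of_dvd (by omega) h1).trans hm.2), h1⟩, h2⟩,
      fun ⟨h1, h2⟩ => ⟨h1.2, h2⟩⟩
  -- the left side
  have hleft : n * (E n).card = ∑ P ∈ S, ∑ j ∈ Finset.Icc 1 n,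
      P.deg * ((E n).filter fun D => (j : ℤ) ≤ D P).card := by
    have hsupp : ∀ D ∈ E n, D.support ⊆ S ∧ ∀ P, D P * P.deg ≤ n := by
      intro D hD
      obtain ⟨hD0, hdeg⟩ := (hE n D).1 hD
      have hb : ∀ P, D P * P.deg ≤ n := fun P => by
        have hle : Finsupp.single P (D P) ≤ D := fun Q => by
          by_cases hQ : Q = P
          · subst hQ; simp
          · simp [hQ]; exact hD0 Q
        have := deg_mono hle
        rwa [deg_single, hdeg] at this
      refine ⟨fun P hP => (hS P).2 ?_, hb⟩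
      have h1 : (1 : ℤ) ≤ D P := by
        have : 0 ≤ D P := hD0 P
        have := Finsupp.mem_support_iff.1 hP
        omega
      have h2 : (P.deg : ℤ) ≤ D P * P.deg := le_mul_of_one_le_left (Int.natCast_nonneg _) h1
      have := hb P
      omega
    have h1 : ((n * (E n).card : ℕ) : ℤ) = ∑ D ∈ E n, ∑ P ∈ S, D P * P.deg := by
      rw [Finset.sum_congr rfl (g := fun _ => (n : ℤ)) fun D hD => ?_, Finset.sum_const]
      · push_cast; ring
      rw [← ((hE n D).1 hD).2, deg_eq_degHom, Finsupp.sum]
      exact (Finset.sum_subset (hsupp D hD).1 fun P _ hP => by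
        rw [Finsupp.notMem_support_iff.1 hP, zero_mul]).symm
    have h2 : ∀ D ∈ E n, ∀ P ∈ S, D P * (P.deg : ℤ) =
        ∑ j ∈ Finset.Icc 1 n, if (j : ℤ) ≤ D P then (P.deg : ℤ) else 0 := by
      intro D hD P _
      have h0 : 0 ≤ D P := ((hE n D).1 hD).1 P
      have hn : D P ≤ n := by
        have := (hsupp D hD).2 P
        have : D P * 1 ≤ D P * (P.deg : ℤ) := mul_le_mul_of_nonneg_left (by have := IsFG.deg_pos h P; omega) h0
        omega
      rw [← Finset.sum_filter, Finset.sum_const, show (Finset.Icc 1 n).filter (fun j : ℕ => (j : ℤ) ≤ D P) =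
        Finset.Icc 1 (D P).toNat by ext j; simp; omega, Nat.card_Icc, nsmul_eq_mul]
      rw [show (((D P).toNat + 1 - 1 : ℕ) : ℤ) = D P by omega]
    zify
    rw [← Nat.cast_mul, h1, Finset.sum_comm]
    refine Finset.sum_congr rfl fun P hP => ?_
    rw [Finset.sum_congr rfl fun D hD => h2 D hD P hP, Finset.sum_comm]
    refine Finset.sum_congr rfl fun j _ => ?_
    rw [← Finset.sum_filter, Finset.sum_const, nsmul_eq_mul, mul_comm]
  have hshift : ∀ P ∈ S, ∀ j : ℕ, ((E n).filter fun D => (j : ℤ) ≤ D P).card =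
      if j * P.deg ≤ n then (E (n - j * P.deg)).card else 0 := by
    intro P _ j
    split_ifs with hj
    · refine Finset.card_bij' (fun D _ => D - Finsupp.single P (j : ℤ)) (fun D _ => D + Finsupp.single P (j : ℤ))
        (fun D hD => ?_) (fun D hD => ?_) (fun D _ => sub_add_cancel _ _) (fun D _ => add_sub_cancel_right _ _)
      · obtain ⟨hD1, hD2⟩ := Finset.mem_filter.1 hD
        obtain ⟨hD0, hdeg⟩ := (hE n D).1 hD1
        refine (hE _ _).2 ⟨fun Q => ?_, by rw [deg_sub, deg_single, hdeg, Nat.cast_sub hj]; push_cast; ring⟩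
        by_cases hQ : Q = P
        · subst hQ; simp; omega
        · simp [hQ]; exact hD0 Q
      · obtain ⟨hD0, hdeg⟩ := (hE _ D).1 hD
        have hP0 : 0 ≤ D P := hD0 P
        refine Finset.mem_filter.2 ⟨(hE _ _).2 ⟨fun Q => ?_, by
          rw [deg_add, deg_single, hdeg, Nat.cast_sub hj]; push_cast; ring⟩, by simp; omega⟩
        by_cases hQ : Q = P
        · subst hQ; simp; omega
        · simp [hQ]; exact hD0 Q
    · rw [Finset.card_eq_zero, Finset.filter_eq_empty_iff]
      intro D hD hle
      obtain ⟨hD0, hdeg⟩ := (hE n D).1 hD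
      have hle' : Finsupp.single P (j : ℤ) ≤ D := fun Q => by
        by_cases hQ : Q = P
        · subst hQ; simpa using hle
        · simp [hQ]; exact hD0 Q
      have := deg_mono hle'
      rw [deg_single, hdeg] at this
      exact hj (by exact_mod_cast this)
  rw [hcard, hleft]
  rw [Finset.sum_congr (rfl : Finset.Icc 1 n = Finset.Icc 1 n)
    (f := fun m => pointSum k K m * effDivCount k K (n - m)) fun m hm => by
      rw [hN m hm, Finset.sum_mul, Finset.sum_filter]]
  rw [Finset.sum_comm (s := Finset.Icc 1 n)]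
  refine Finset.sum_congr rfl fun P hP => ?_
  have hd := IsFG.deg_pos h P
  rw [← Finset.sum_filter, Finset.sum_congr rfl fun j _ => by rw [hshift P hP j, mul_ite, mul_zero],
    ← Finset.sum_filter]
  refine Finset.sum_bij' (fun j _ => j * P.deg) (fun m _ => m / P.deg) ?_ ?_ ?_ ?_ ?_
  · intro j hj
    simp only [Finset.mem_filter, Finset.mem_Icc] at hj ⊢
    exact ⟨⟨Nat.mul_pos (by omega) hd, hj.2⟩, dvd_mul_left _ _⟩
  · intro m hm
    simp only [Finset.mem_filter, Finset.mem_Icc] at hm ⊢
    obtain ⟨⟨hm1, hm2⟩, c, rfl⟩ := hm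
    rw [Nat.mul_div_cancel_left c hd]
    have hc : 0 < c := Nat.pos_of_mul_pos_left (show 0 < P.deg * c by omega)
    have : c ≤ P.deg * c := Nat.le_mul_of_pos_left c hd
    exact ⟨⟨hc, by omega⟩, by rw [mul_comm]; omega⟩
  · intro j _; exact Nat.mul_div_cancel j hd
  · intro m hm
    simp only [Finset.mem_filter] at hm
    exact Nat.div_mul_cancel hm.2
  · intro j _; rw [hcard]

open PowerSeries in
/-- `X f' = f s`. -/
def LD (f s : PowerSeries ℂ) : Prop := PowerSeries.X * PowerSeries.derivative ℂ f = f * s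

theorem LD.mul {f g s t : PowerSeries ℂ} (hf : LD f s) (hg : LD g t) : LD (f * g) (s + t) := by
  unfold LD at *
  rw [Derivation.leibniz, smul_eq_mul, smul_eq_mul]
  linear_combination g * hf + f * hg

theorem LD.one : LD 1 0 := by
  unfold LD; simp

theorem LD.prod {ι : Type*} (s : Finset ι) {f u : ι → PowerSeries ℂ} (h : ∀ i ∈ s, LD (f i) (u i)) :
    LD (∏ i ∈ s, f i) (∑ i ∈ s, u i) := by
  classical
  induction s using Finset.induction with
  | empty => simpa using LD.one
  | insert i s hi ih =>
    rw [Finset.prod_insert hi, Finset.sum_insert hi]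
    exact (h i (Finset.mem_insert_self _ _)).mul (ih fun j hj => h j (Finset.mem_insert_of_mem hj))

theorem LD.linear (a : ℂ) :
    LD (1 - PowerSeries.C a * PowerSeries.X) (-PowerSeries.mk fun n => if n = 0 then 0 else a ^ n) := by
  unfold LD
  ext n
  rw [mul_neg, map_neg, sub_mul, one_mul, mul_assoc]
  simp only [map_sub, PowerSeries.coeff_C_mul, Derivation.map_one_eq_zero, Derivation.leibniz,
    PowerSeries.derivative_C, PowerSeries.derivative_X, smul_eq_mul]
  rcases n with _ | _ | n
  · simp
  · simp [PowerSeries.coeff_derivative, PowerSeries.coeff_X, PowerSeries.coeff_one]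
  · simp [PowerSeries.coeff_derivative, PowerSeries.coeff_X, PowerSeries.coeff_one, pow_succ]
    ring

/-- The point counts in terms of the reciprocal roots. -/
theorem pointSum_eq (h : IsFG k K) {r : ℕ} (α : Fin r → ℂ)
    (hα : PowerSeries.map (Int.castRingHom ℂ) (numerZ k K) =
      ((∏ i, (1 - Polynomial.C (α i) * Polynomial.X) : Polynomial ℂ) : PowerSeries ℂ)) {m : ℕ} (hm : 1 ≤ m) :
    (pointSum k K m : ℂ) = 1 + (Nat.card k : ℂ) ^ m - ∑ i, α i ^ m := by
  classical
  set G : ℂ → PowerSeries ℂ := fun a => PowerSeries.mk fun n => if n = 0 then 0 else a ^ n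
  set N : PowerSeries ℂ := PowerSeries.mk fun n => if n = 0 then 0 else (pointSum k K n : ℂ)
  set q : ℂ := (Nat.card k : ℂ)
  set Z := PowerSeries.map (Int.castRingHom ℂ) (zetaZ k K)
  have hZ : LD Z N := by
    unfold LD
    ext n
    conv_rhs => rw [PowerSeries.coeff_mul]
    rcases n with _ | n
    · simp [N]
    rw [PowerSeries.coeff_succ_X_mul, PowerSeries.coeff_derivative, Finset.Nat.sum_antidiagonal_eq_sum_range_succ_mk]
    have hrec : (((n + 1) * effDivCount k K (n + 1) : ℕ) : ℂ) =
        ((∑ j ∈ Finset.Icc 1 (n + 1), pointSum k K j * effDivCount k K (n + 1 - j) : ℕ) : ℂ) := by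
      rw [mul_effDivCount h]
    have hsub : Finset.Icc 1 (n + 1) = (Finset.range (n + 1).succ).erase 0 := by ext; simp; omega
    rw [← Finset.sum_range_reflect, ← Finset.sum_erase _ (a := 0) (by simp [N]), ← hsub]
    push_cast at hrec
    simp only [Z, PowerSeries.coeff_map, zetaZ, PowerSeries.coeff_mk, eq_intCast, Int.cast_natCast]
    rw [mul_comm, hrec]
    refine Finset.sum_congr rfl fun j hj => ?_
    rw [Finset.mem_Icc] at hj
    simp only [N, PowerSeries.coeff_mk, Nat.succ_eq_add_one, show n + 1 + 1 - 1 - j = n + 1 - j by omega,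
      show n + 1 - (n + 1 - j) = j by omega, if_neg (show j ≠ 0 by omega)]
    rw [mul_comm]
  have hL : LD (PowerSeries.map (Int.castRingHom ℂ) (numerZ k K)) (-G 1 + -G q + N) := by
    have h1 : LD (1 - PowerSeries.X) (-G 1) := by simpa [G] using LD.linear 1
    have h2 := (h1.mul (LD.linear q)).mul hZ
    refine cast (congrArg (fun f => LD f _) ?_) h2
    simp [numerZ, Z, q]
  have hR : LD (PowerSeries.map (Int.castRingHom ℂ) (numerZ k K)) (∑ i, -G (α i)) := by
    rw [hα, ← Polynomial.coeToPowerSeries.ringHom_apply, map_prod]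
    refine LD.prod _ fun i _ => ?_
    simpa using LD.linear (α i)
  have hne : PowerSeries.map (Int.castRingHom ℂ) (numerZ k K) ≠ 0 := by
    intro h0
    have := congrArg (PowerSeries.constantCoeff (R := ℂ)) (hα.symm.trans h0)
    rw [map_zero, ← Polynomial.coeToPowerSeries.ringHom_apply, map_prod, map_prod] at this
    simp at this
  unfold LD at hL hR
  rw [hL] at hR
  have := congrArg (PowerSeries.coeff m) (mul_left_cancel₀ hne hR)
  simp only [G, N, map_add, map_neg, map_sum, PowerSeries.coeff_mk, if_neg (show m ≠ 0 by omega), one_pow,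
    Finset.sum_neg_distrib] at this
  linear_combination this

end GrothLib.FunFld.RH
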