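import Groth.Agent.Lib.FunFld.RH.GaloisCount
import Groth.Agent.Lib.FunFld.RH.ZetaLog
import Groth.Agent.Lib.FunFld.Ext
import Mathlib.FieldTheory.Galois.Basic
import Mathlib.FieldTheory.AlgebraicClosure
import Mathlib.FieldTheory.Normal.Closure
import Mathlib.RingTheory.TensorProduct.Basic

/-!
The square root bound for point counts.
-/

set_option autoImplicit false
set_option linter.style.haveILetI false
set_option linter.unusedSectionVars false

namespace GrothLib.FunFld.RH

open _root_.FunFld GrothLib.FunFld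
open scoped TensorProduct

/-- From the Galois group to the intermediate field. -/
theorem core {kb Lb : Type*} [Field kb] [IsAlgClosed kb] [Field Lb] [Algebra kb Lb]
    (hL : IsFunctionField kb Lb) (E E' : IntermediateField kb Lb) (hle : E ≤ E')
    [FiniteDimensional E Lb] [IsGalois E Lb] [FiniteDimensional E' Lb] [IsGalois E' Lb]
    (hE : IsFG kb E) (hE' : IsFG kb E')
    {n : ℕ} (hn : genus kb Lb < n) (hn2 : 2 ≤ n) (τ : Lb →ₐ[kb] Lb)
    (hdeg : Module.finrank τ.fieldRange Lb = n * n) (hpow : ∀ y, ∃ y', τ y = y' ^ (n * n))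
    (hcomm : ∀ σ : Lb ≃ₐ[kb] Lb, (∀ e ∈ E, σ e = e) → ∀ z, σ (τ z) = τ (σ z))
    (τE : E →ₐ[kb] E) (hτE : ∀ a : E, τ a = (τE a : Lb))
    (τE' : E' →ₐ[kb] E') (hτE' : ∀ a : E', τ a = (τE' a : Lb))
    [Finite {R : Place kb E // IsFixedPt τE R}] [Finite {R : Place kb E' // IsFixedPt τE' R}]
    (hNE : Nat.card {R : Place kb E // IsFixedPt τE R} = n * n + 1) :
    |(Nat.card {R : Place kb E' // IsFixedPt τE' R} : ℝ) - ((n : ℝ) * n + 1)| ≤
      (Module.finrank E Lb : ℝ) * ((2 * (genus kb Lb : ℝ) + 2 * (genus kb Lb : ℝ) ^ 3) * n) := by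
  classical
  set c : ℝ := (2 * (genus kb Lb : ℝ) + 2 * (genus kb Lb : ℝ) ^ 3) * n
  have hc : 0 ≤ c := by positivity
  set f : (Lb ≃ₐ[kb] Lb) → ℕ := fun σ => Nat.card {P : Place kb Lb // IsFixedPt ((σ : Lb →ₐ[kb] Lb).comp τ) P}
  have hB : ∀ σ, (f σ : ℝ) ≤ (n : ℝ) * n + 1 + c := fun σ => by
    have := (card_fixed_le hL hn hn2 τ hdeg hpow σ).2
    show (f σ : ℝ) ≤ _
    linarith
  letI : Fintype (Lb ≃ₐ[E] Lb) := Fintype.ofFinite _
  letI : Fintype (Lb ≃ₐ[E'] Lb) := Fintype.ofFinite _
  have hsum := sum_fixed (M := E) hE τ τE (fun a => hτE a)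
    (fun σ z => hcomm (σ.restrictScalars kb) (fun e he => σ.commutes ⟨e, he⟩) z)
    (fun σ => (card_fixed_le hL hn hn2 τ hdeg hpow (σ.restrictScalars kb)).1)
  have hsum' := sum_fixed (M := E') hE' τ τE' (fun a => hτE' a)
    (fun σ z => hcomm (σ.restrictScalars kb) (fun e he => σ.commutes ⟨e, hle he⟩) z)
    (fun σ => (card_fixed_le hL hn hn2 τ hdeg hpow (σ.restrictScalars kb)).1)
  have hsumR : ∑ σ : Lb ≃ₐ[E] Lb, (f (σ.restrictScalars kb) : ℝ) =
      (Module.finrank E Lb : ℝ) * ((n : ℝ) * n + 1) := by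
    rw [← Nat.cast_sum, hsum, hNE]; push_cast; ring
  have hsumR' : ∑ σ : Lb ≃ₐ[E'] Lb, (f (σ.restrictScalars kb) : ℝ) =
      (Module.finrank E' Lb : ℝ) * (Nat.card {R : Place kb E' // IsFixedPt τE' R} : ℝ) := by
    rw [← Nat.cast_sum, hsum']; push_cast; ring
  set G : ℝ := (Module.finrank E Lb : ℝ)
  have hcardG : ((Finset.univ : Finset (Lb ≃ₐ[E] Lb)).card : ℝ) = G := by
    rw [Finset.card_univ, ← Nat.card_eq_fintype_card, IsGalois.card_aut_eq_finrank]
  have hG1 : 1 ≤ G := Nat.one_le_cast.2 Module.finrank_pos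
  have hlow : ∀ σ : Lb ≃ₐ[E] Lb, (n : ℝ) * n + 1 - G * c ≤ f (σ.restrictScalars kb) := by
    intro σ
    have h1 : ∑ ρ ∈ Finset.univ.erase σ, (f (ρ.restrictScalars kb) : ℝ) ≤ (G - 1) * ((n : ℝ) * n + 1 + c) := by
      refine (Finset.sum_le_card_nsmul _ _ _ fun ρ _ => hB _).trans (le_of_eq ?_)
      rw [nsmul_eq_mul, Finset.card_erase_of_mem (Finset.mem_univ σ),
        Nat.cast_sub (Finset.card_pos.2 ⟨σ, Finset.mem_univ σ⟩), hcardG, Nat.cast_one]
    rw [← Finset.add_sum_erase _ _ (Finset.mem_univ σ)] at hsumR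
    nlinarith
  set H : ℝ := (Module.finrank E' Lb : ℝ)
  have hcardH : ((Finset.univ : Finset (Lb ≃ₐ[E'] Lb)).card : ℝ) = H := by
    rw [Finset.card_univ, ← Nat.card_eq_fintype_card, IsGalois.card_aut_eq_finrank]
  have hH : 0 < H := Nat.cast_pos.2 Module.finrank_pos
  have hup' : H * (Nat.card {R : Place kb E' // IsFixedPt τE' R} : ℝ) ≤ H * ((n : ℝ) * n + 1 + c) := by
    rw [← hsumR', ← hcardH, ← nsmul_eq_mul]
    exact Finset.sum_le_card_nsmul _ _ _ fun ρ _ => hB _
  have hlow' : H * ((n : ℝ) * n + 1 - G * c) ≤ H * (Nat.card {R : Place kb E' // IsFixedPt τE' R} : ℝ) := by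
    rw [← hsumR', ← hcardH, ← nsmul_eq_mul]
    refine Finset.card_nsmul_le_sum _ _ _ fun ρ _ => ?_
    exact hlow (AlgEquiv.ofRingEquiv (f := (ρ : Lb ≃+* Lb)) fun e => ρ.commutes ⟨e.1, hle e.2⟩)
  rw [abs_sub_le_iff]
  constructor
  · have := le_of_mul_le_mul_left hup' hH
    nlinarith
  · have := le_of_mul_le_mul_left hlow' hH
    linarith

/-- Fixed places on the field generated by the constants and `K`. -/
theorem count_adjoin {k K kb Lb : Type*} [Field k] [Finite k] [Field K] [Field kb] [IsAlgClosed kb] [Field Lb]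
    [Algebra k K] [Algebra k kb] [Algebra.IsAlgebraic k kb] [Algebra kb Lb] [Algebra k Lb] [Algebra K Lb]
    [IsScalarTower k kb Lb] [IsScalarTower k K Lb] (hK : IsFunctionField k K) {m : ℕ} (hm : 0 < m)
    (τ : Lb →ₐ[kb] Lb) (hτ : ∀ a : K, τ (algebraMap K Lb a) = algebraMap K Lb a ^ Nat.card k ^ m) :
    IsFG kb (IntermediateField.adjoin kb (Set.range (algebraMap K Lb))) ∧
    ∃ τE : IntermediateField.adjoin kb (Set.range (algebraMap K Lb)) →ₐ[kb]
        IntermediateField.adjoin kb (Set.range (algebraMap K Lb)),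
      (∀ a : IntermediateField.adjoin kb (Set.range (algebraMap K Lb)), τ a = (τE a : Lb)) ∧
      Finite {R : Place kb (IntermediateField.adjoin kb (Set.range (algebraMap K Lb))) // IsFixedPt τE R} ∧
      Nat.card {R : Place kb (IntermediateField.adjoin kb (Set.range (algebraMap K Lb))) // IsFixedPt τE R} =
        pointSum k K m := by
  set M := IntermediateField.adjoin kb (Set.range (algebraMap K Lb)) with hM
  letI : Algebra K M := ((algebraMap K Lb).codRestrict M.toSubalgebra.toSubring
    fun a => IntermediateField.subset_adjoin _ _ ⟨a, rfl⟩).toAlgebra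
  haveI : IsScalarTower k K M := IsScalarTower.of_algebraMap_eq fun c => Subtype.ext (by
    show (algebraMap k M c : Lb) = algebraMap K Lb (algebraMap k K c)
    rw [← IsScalarTower.algebraMap_apply k K Lb]; rfl)
  have hmem : ∀ z ∈ M, τ z ∈ M := by
    intro z hz
    induction hz using IntermediateField.adjoin_induction with
    | mem w hw =>
      obtain ⟨a, rfl⟩ := hw
      rw [hτ]; exact pow_mem (IntermediateField.subset_adjoin _ _ (Set.mem_range_self a)) _
    | algebraMap c => rw [AlgHom.commutes]; exact IntermediateField.algebraMap_mem _ _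
    | add a b _ _ ha hb => rw [map_add]; exact add_mem ha hb
    | inv a _ ha => rw [map_inv₀]; exact inv_mem ha
    | mul a b _ _ ha hb => rw [map_mul]; exact mul_mem ha hb
  let τE : M →ₐ[kb] M := (τ.comp M.val).codRestrict M.toSubalgebra fun z => hmem _ z.2
  have htop : IntermediateField.adjoin kb (Set.range (algebraMap K M)) = ⊤ := by
    refine IntermediateField.map_injective M.val ?_
    rw [IntermediateField.adjoin_map, ← AlgHom.fieldRange_eq_map, IntermediateField.fieldRange_val,
      ← Set.range_comp]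
    rfl
  have hbar := isBar_of_adjoin (k := k) (isGeometric_of_perfectField hK) htop
  exact ⟨(hbar.isFunctionField hK).1, τE, fun _ => rfl,
    natCard_fixed hbar hK hm fun a => Subtype.ext (hτ a)⟩

theorem pointSum_adjoin_simple {k K : Type*} [Field k] [Finite k] [Field K] [Algebra k K]
    (hK : IsFunctionField k K) {x : K} (hx : Transcendental k x) {m : ℕ} (hm : 1 ≤ m) :
    IsFunctionField k (IntermediateField.adjoin k ({x} : Set K)) ∧
      pointSum k (IntermediateField.adjoin k ({x} : Set K)) m = Nat.card k ^ m + 1 := by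
  set K₀ := IntermediateField.adjoin k ({x} : Set K)
  have hF := (isFunctionField_intermediateField hK K₀ ⟨x, IntermediateField.mem_adjoin_simple_self k x, hx⟩).1
  refine ⟨hF, ?_⟩
  have htop : IntermediateField.adjoin k ({⟨x, IntermediateField.mem_adjoin_simple_self k x⟩} : Set K₀) = ⊤ := by
    refine IntermediateField.map_injective K₀.val ?_
    rw [IntermediateField.adjoin_map, ← AlgHom.fieldRange_eq_map, IntermediateField.fieldRange_val,
      Set.image_singleton]
    rfl
  have hg := (of_adjoin_eq_top hF htop).1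
  obtain ⟨α, -, hα, -⟩ := exists_reciprocal_roots hF
  have h1 := pointSum_eq hF.1 α hα hm
  haveI : IsEmpty (Fin (2 * genus k K₀)) := ⟨fun i => absurd i.2 (by omega)⟩
  rw [Finset.univ_eq_empty, Finset.sum_empty, sub_zero] at h1
  have h2 : (pointSum k K₀ m : ℂ) = ((Nat.card k ^ m + 1 : ℕ) : ℂ) := by rw [h1]; push_cast; ring
  exact_mod_cast h2

/-- The bound in a Galois setting. -/
theorem bound_of_bar {k K k' L kb Lb : Type*} [Field k] [Finite k] [Field K] [Field k'] [Finite k'] [Field L]
    [Field kb] [IsAlgClosed kb] [Field Lb]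
    [Algebra k K] [Algebra k k'] [Algebra K L] [Algebra k' L] [Algebra k L] [Algebra k kb] [Algebra k' kb]
    [Algebra kb Lb] [Algebra L Lb] [Algebra k' Lb] [Algebra k Lb] [Algebra K Lb]
    [IsScalarTower k K L] [IsScalarTower k k' L] [IsScalarTower k k' kb] [IsScalarTower k' kb Lb]
    [IsScalarTower k' L Lb] [IsScalarTower k kb Lb] [IsScalarTower k K Lb] [IsScalarTower K L Lb]
    [Algebra.IsAlgebraic k kb] [Algebra.IsAlgebraic k' kb]
    (hK : IsFunctionField k K) (hL : IsFunctionField k' L) (hbar : IsBar k' L kb Lb)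
    {x : K} (hx : Transcendental k x)
    [FiniteDimensional (IntermediateField.adjoin k' ({algebraMap K L x} : Set L)) L]
    [IsGalois (IntermediateField.adjoin k' ({algebraMap K L x} : Set L)) L] :
    ∀ j : ℕ, 1 ≤ j → genus kb Lb < Nat.card k' ^ j →
      |(pointSum k K (Module.finrank k k' * (2 * j)) : ℝ) -
          ((Nat.card k' : ℝ) ^ j * (Nat.card k' : ℝ) ^ j + 1)| ≤
        (Module.finrank (IntermediateField.adjoin k' ({algebraMap K L x} : Set L)) L : ℝ) *
          ((2 * (genus kb Lb : ℝ) + 2 * (genus kb Lb : ℝ) ^ 3) * (Nat.card k' : ℝ) ^ j) := by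
  classical
  intro j hj hgn
  haveI : Module.Finite k k' := Module.Finite.of_finite
  set r := Module.finrank k k'
  have hr : 0 < r := Module.finrank_pos
  set n := Nat.card k' ^ j with hn
  have hn2 : 2 ≤ n := le_trans Finite.one_lt_card (Nat.le_self_pow (by omega) _)
  have hQ : Nat.card k' ^ (2 * j) = n * n := by rw [hn, two_mul, pow_add]
  have hQk : Nat.card k ^ (r * (2 * j)) = n * n := by
    rw [← hQ, pow_mul, ← Module.natCard_eq_pow_finrank]
  obtain ⟨τ, hτ⟩ := hbar.exists_tau (2 * j)
  rw [hQ] at hτ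
  have hLb := hbar.isFunctionField hL
  have hdeg := finrank_fieldRange_tau hbar hL (by positivity) hτ
  obtain ⟨p, hc⟩ := CharP.exists k'
  letI := Fintype.ofFinite k'
  obtain ⟨s, hp, hcard⟩ := FiniteField.card k' p
  haveI := Fact.mk hp
  haveI : CharP Lb p := charP_of_injective_algebraMap (algebraMap k' Lb).injective p
  haveI : ExpChar Lb p := ExpChar.prime hp
  have hQp : n * n = p ^ ((s : ℕ) * (2 * j)) := by
    rw [← hQ, Nat.card_eq_fintype_card, hcard, ← pow_mul]
  have hpow : ∀ y, ∃ y', τ y = y' ^ (n * n) := by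
    rw [hQp] at hτ ⊢
    exact exists_pow_eq_tau hbar hτ
  -- the two subfields
  set K₀ := IntermediateField.adjoin k ({x} : Set K)
  set F := IntermediateField.adjoin k' ({algebraMap K L x} : Set L)
  obtain ⟨hF0, hN0⟩ := pointSum_adjoin_simple hK hx (m := r * (2 * j)) (Nat.mul_pos hr (by omega))
  have hτK : ∀ a : K, τ (algebraMap K Lb a) = algebraMap K Lb a ^ Nat.card k ^ (r * (2 * j)) := fun a => by
    rw [hQk, IsScalarTower.algebraMap_apply K L Lb, hτ]
  let E := IntermediateField.adjoin kb (Set.range (algebraMap K₀ Lb))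
  let E' := IntermediateField.adjoin kb (Set.range (algebraMap K Lb))
  obtain ⟨hE, τE, hτE, hfE, hcE⟩ := count_adjoin (K := K₀) (kb := kb) (Lb := Lb) hF0
    (Nat.mul_pos hr (show 0 < 2 * j by omega)) τ fun a => hτK _
  obtain ⟨hE', τE', hτE', hfE', hcE'⟩ := count_adjoin (K := K) (kb := kb) (Lb := Lb) hK
    (Nat.mul_pos hr (show 0 < 2 * j by omega)) τ hτK
  have hle : E ≤ E' := IntermediateField.adjoin.mono kb _ _ (by rintro _ ⟨a, rfl⟩; exact ⟨_, rfl⟩)
  -- `F` maps into `E`
  have hFE : ∀ a ∈ F, algebraMap L Lb a ∈ E := by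
    intro a ha
    induction ha using IntermediateField.adjoin_induction with
    | mem w hw =>
      rw [Set.mem_singleton_iff.mp hw]
      refine IntermediateField.subset_adjoin _ _ ⟨⟨x, IntermediateField.mem_adjoin_simple_self k x⟩, ?_⟩
      show algebraMap K Lb x = _
      exact IsScalarTower.algebraMap_apply K L Lb x
    | algebraMap c =>
      rw [← IsScalarTower.algebraMap_apply k' L Lb, IsScalarTower.algebraMap_apply k' kb Lb]
      exact IntermediateField.algebraMap_mem _ _
    | add a b _ _ ha hb => rw [map_add]; exact add_mem ha hb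
    | inv a _ ha => rw [map_inv₀]; exact inv_mem ha
    | mul a b _ _ ha hb => rw [map_mul]; exact mul_mem ha hb
  have hK0F : ∀ a : K₀, algebraMap K L a ∈ F := by
    rintro ⟨a, ha⟩
    induction ha using IntermediateField.adjoin_induction with
    | mem w hw =>
      show algebraMap K L w ∈ F
      rw [Set.mem_singleton_iff.mp hw]; exact IntermediateField.mem_adjoin_simple_self _ _
    | algebraMap c =>
      show algebraMap K L (algebraMap k K c) ∈ F
      rw [← IsScalarTower.algebraMap_apply k K L, IsScalarTower.algebraMap_apply k k' L]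
      exact IntermediateField.algebraMap_mem _ _
    | add a b _ _ ha hb => show algebraMap K L (a + b) ∈ F; rw [map_add]; exact add_mem ha hb
    | inv a _ ha => show algebraMap K L a⁻¹ ∈ F; rw [map_inv₀]; exact inv_mem ha
    | mul a b _ _ ha hb => show algebraMap K L (a * b) ∈ F; rw [map_mul]; exact mul_mem ha hb
  -- dimension
  obtain ⟨hfinE, hrank⟩ : FiniteDimensional E Lb ∧ Module.finrank E Lb ≤ Module.finrank F L := by
    let b := Module.finBasis F L
    let φ := Fintype.linearCombination E fun i => algebraMap L Lb (b i)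
    have hφ : Function.Surjective φ := fun z => by
      rw [← LinearMap.mem_range, Fintype.range_linearCombination]
      suffices Submodule.span kb (Set.range (algebraMap L Lb)) ≤
          (Submodule.span E (Set.range fun i => algebraMap L Lb (b i))).restrictScalars kb from
        this (hbar.mem_span z)
      rw [Submodule.span_le]
      rintro _ ⟨a, rfl⟩
      rw [← b.sum_repr a, map_sum]
      refine Submodule.sum_mem _ fun i _ => ?_
      rw [Algebra.smul_def, map_mul]
      exact Submodule.smul_mem _ (⟨_, hFE _ (b.repr a i).2⟩ : E) (Submodule.subset_span ⟨i, rfl⟩)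
    refine ⟨Module.Finite.of_surjective φ hφ, ?_⟩
    have := φ.finrank_range_le
    rw [LinearMap.range_eq_top.2 hφ, finrank_top, Module.finrank_fin_fun] at this
    exact this
  -- the Galois group
  let e : kb ⊗[k'] L ≃ₐ[k'] Lb := AlgEquiv.ofBijective _ hbar
  have hl : ∀ c : kb, e (c ⊗ₜ 1) = algebraMap kb Lb c := fun c => by simp [e]
  have hre : ∀ a : L, e (1 ⊗ₜ a) = algebraMap L Lb a := fun a => by simp [e]
  have hlift : ∀ σ : L ≃ₐ[F] L, ∃ ρ : Lb ≃ₐ[E] Lb, ∀ a, ρ (algebraMap L Lb a) = algebraMap L Lb (σ a) := by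
    intro σ
    let ρ₀ : Lb ≃ₐ[k'] Lb := (e.symm.trans
      (Algebra.TensorProduct.congr (AlgEquiv.refl : kb ≃ₐ[k'] kb) (σ.restrictScalars k'))).trans e
    have hρL : ∀ a, ρ₀ (algebraMap L Lb a) = algebraMap L Lb (σ a) := fun a => by
      show e (Algebra.TensorProduct.congr _ _ (e.symm (algebraMap L Lb a))) = _
      rw [← hre, e.symm_apply_apply, ← hre]
      simp
    have hρc : ∀ c, ρ₀ (algebraMap kb Lb c) = algebraMap kb Lb c := fun c => by
      show e (Algebra.TensorProduct.congr _ _ (e.symm (algebraMap kb Lb c))) = _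
      rw [← hl, e.symm_apply_apply]
      simp
    have hfix : ∀ z : E, ρ₀ z = z := by
      rintro ⟨z, hz⟩
      show ρ₀ z = z
      induction hz using IntermediateField.adjoin_induction with
      | mem w hw =>
        obtain ⟨a, rfl⟩ := hw
        show ρ₀ (algebraMap K Lb a) = algebraMap K Lb a
        rw [IsScalarTower.algebraMap_apply K L Lb, hρL]
        congr 1
        exact σ.commutes ⟨_, hK0F a⟩
      | algebraMap c => exact hρc c
      | add a b _ _ ha hb => rw [map_add, ha, hb]
      | inv a _ ha => rw [map_inv₀, ha]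
      | mul a b _ _ ha hb => rw [map_mul, ha, hb]
    exact ⟨AlgEquiv.ofRingEquiv (f := (ρ₀ : Lb ≃+* Lb)) hfix, hρL⟩
  choose ρ hρ using hlift
  have hρinj : Function.Injective ρ := fun σ σ' h => AlgEquiv.ext fun a =>
    (algebraMap L Lb).injective (by rw [← hρ σ, ← hρ σ', h])
  have h1 : Module.finrank F L ≤ Nat.card (Lb ≃ₐ[E] Lb) := by
    rw [← IsGalois.card_aut_eq_finrank F L]
    exact Nat.card_le_card_of_injective ρ hρinj
  have h2 : Nat.card (Lb ≃ₐ[E] Lb) ≤ Module.finrank E Lb := by
    rw [Nat.card_eq_fintype_card]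
    exact AlgEquiv.card_le
  haveI : IsGalois E Lb := IsGalois.of_card_aut_eq_finrank E Lb (by omega)
  have hρsurj : Function.Surjective ρ := by
    have hb := (Nat.bijective_iff_injective_and_card ρ).2 ⟨hρinj, by rw [IsGalois.card_aut_eq_finrank]; omega⟩
    exact hb.2
  letI : Algebra E E' := (IntermediateField.inclusion hle).toRingHom.toAlgebra
  haveI : IsScalarTower E E' Lb := IsScalarTower.of_algebraMap_eq fun _ => rfl
  haveI : FiniteDimensional E' Lb := Module.Finite.right E E' Lb
  haveI : IsGalois E' Lb := IsGalois.tower_top_of_isGalois E E' Lb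
  have hcomm : ∀ σ : Lb ≃ₐ[kb] Lb, (∀ z ∈ E, σ z = z) → ∀ z, σ (τ z) = τ (σ z) := by
    intro σ hσ z
    obtain ⟨σ₀, hσ₀⟩ := hρsurj (AlgEquiv.ofRingEquiv (f := (σ : Lb ≃+* Lb)) fun a => hσ a.1 a.2)
    have hσL : ∀ a, σ (algebraMap L Lb a) = algebraMap L Lb (σ₀ a) := fun a => by
      rw [← hρ σ₀ a, hσ₀]; rfl
    refine AlgHom.congr_fun (algHom_ext_of_adjoin hbar.adjoin_eq_top
      (f := (σ : Lb →ₐ[kb] Lb).comp τ) (g := τ.comp (σ : Lb →ₐ[kb] Lb)) fun a => ?_) z
    show σ (τ (algebraMap L Lb a)) = τ (σ (algebraMap L Lb a))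
    rw [hτ, map_pow, hσL, hτ]
  haveI := hfE
  haveI := hfE'
  have hNE : Nat.card {R : Place kb E // IsFixedPt τE R} = n * n + 1 := by rw [hcE, hN0, hQk]
  have hmain := core hLb E E' hle hE hE' hgn hn2 τ hdeg hpow hcomm τE hτE τE' hτE' hNE
  rw [hcE'] at hmain
  have hFn : (Module.finrank E Lb : ℝ) = (Module.finrank F L : ℝ) := by
    have : Module.finrank E Lb = Module.finrank F L := by omega
    rw [this]
  rw [hFn, hn] at hmain
  push_cast at hmain
  exact hmain

/-- The bound, given a Galois cover with its constant field. -/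
theorem exists_bound_aux {k K k' L : Type*} [Field k] [Finite k] [Field K] [Field k'] [Finite k'] [Field L]
    [Algebra k K] [Algebra k k'] [Algebra K L] [Algebra k' L] [Algebra k L]
    [IsScalarTower k K L] [IsScalarTower k k' L] [FiniteDimensional k k']
    (hK : IsFunctionField k K) (hL : IsFunctionField k' L) {x : K} (hx : Transcendental k x)
    [FiniteDimensional (IntermediateField.adjoin k' ({algebraMap K L x} : Set L)) L]
    [IsGalois (IntermediateField.adjoin k' ({algebraMap K L x} : Set L)) L] :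
    ∃ (C : ℝ) (d : ℕ), 0 < d ∧ ∀ N : ℕ, 1 ≤ N →
      |(pointSum k K (d * N) : ℝ) - ((Nat.card k : ℝ) ^ (d * N) + 1)| ≤
        C * (Nat.card k : ℝ) ^ (((d * N : ℕ) : ℝ) / 2) := by
  classical
  let kb := AlgebraicClosure k
  letI : Algebra k' kb := (IsAlgClosed.lift (R := k) (S := k') (M := kb)).toRingHom.toAlgebra
  haveI : IsScalarTower k k' kb :=
    IsScalarTower.of_algebraMap_eq fun c => ((IsAlgClosed.lift (R := k) (S := k') (M := kb)).commutes c).symm
  haveI : Algebra.IsAlgebraic k' kb := Algebra.IsAlgebraic.tower_top (K := k) (L := k')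
  have hField := isField_tensor (k := k') (K := L) (kb := kb) (isGeometric_of_perfectField hL)
  letI : Field (kb ⊗[k'] L) := hField.toField
  letI : Algebra L (kb ⊗[k'] L) := Algebra.TensorProduct.rightAlgebra
  letI : Algebra K (kb ⊗[k'] L) := ((algebraMap L (kb ⊗[k'] L)).comp (algebraMap K L)).toAlgebra
  haveI : IsScalarTower K L (kb ⊗[k'] L) := IsScalarTower.of_algebraMap_eq fun _ => rfl
  haveI : IsScalarTower k' L (kb ⊗[k'] L) := IsScalarTower.of_algebraMap_eq fun c =>
    ((Algebra.TensorProduct.includeRight (R := k') (A := kb) (B := L)).commutes c).symm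
  haveI : IsScalarTower k K (kb ⊗[k'] L) := IsScalarTower.of_algebraMap_eq fun c => by
    show algebraMap k (kb ⊗[k'] L) c = (1 : kb) ⊗ₜ[k'] algebraMap K L (algebraMap k K c)
    rw [← IsScalarTower.algebraMap_apply k K L, IsScalarTower.algebraMap_apply k k' L,
      IsScalarTower.algebraMap_apply k k' (kb ⊗[k'] L)]
    exact ((Algebra.TensorProduct.includeRight (R := k') (A := kb) (B := L)).commutes _).symm
  have hbar : IsBar k' L kb (kb ⊗[k'] L) := by
    have heq : ∀ z, Algebra.TensorProduct.productMap (IsScalarTower.toAlgHom k' kb (kb ⊗[k'] L))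
        (IsScalarTower.toAlgHom k' L (kb ⊗[k'] L)) z = z := by
      intro z
      induction z using TensorProduct.induction_on with
      | zero => exact map_zero _
      | tmul a b =>
        rw [Algebra.TensorProduct.productMap_apply_tmul]
        show (a ⊗ₜ[k'] (1 : L)) * ((1 : kb) ⊗ₜ[k'] b) = _
        rw [Algebra.TensorProduct.tmul_mul_tmul, one_mul, mul_one]
      | add a b ha hb => rw [map_add, ha, hb]
    exact ⟨fun a b h => (heq a).symm.trans (h.trans (heq b)), fun z => ⟨z, heq z⟩⟩
  set F := IntermediateField.adjoin k' ({algebraMap K L x} : Set L)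
  set g := genus kb (kb ⊗[k'] L)
  set r := Module.finrank k k' with hr
  have hr0 : 0 < r := Module.finrank_pos
  refine ⟨(Module.finrank F L : ℝ) * (2 * (g : ℝ) + 2 * (g : ℝ) ^ 3), r * (2 * (g + 1)), by positivity, fun N hN => ?_⟩
  set j := (g + 1) * N with hj
  have hjg : g + 1 ≤ j := Nat.le_mul_of_pos_right _ hN
  have hgn : g < Nat.card k' ^ j :=
    lt_of_lt_of_le (show g < j by omega) (Nat.lt_pow_self Finite.one_lt_card).le
  have h := bound_of_bar (k := k) (K := K) (k' := k') (L := L) (kb := kb) (Lb := kb ⊗[k'] L) hK hL hbar hx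
    j (by omega) hgn
  rw [show r * (2 * (g + 1)) * N = r * (2 * j) by rw [hj]; ring]
  have hq' : (Nat.card k' : ℝ) = (Nat.card k : ℝ) ^ r := by
    rw [Module.natCard_eq_pow_finrank (K := k), Nat.cast_pow]
  have hhalf : (Nat.card k : ℝ) ^ (((r * (2 * j) : ℕ) : ℝ) / 2) = ((Nat.card k : ℝ) ^ r) ^ j := by
    rw [show (((r * (2 * j) : ℕ) : ℝ)) / 2 = ((r * j : ℕ) : ℝ) by push_cast; ring, Real.rpow_natCast, pow_mul]
  rw [hhalf, show (Nat.card k : ℝ) ^ (r * (2 * j)) = ((Nat.card k : ℝ) ^ r) ^ j * ((Nat.card k : ℝ) ^ r) ^ j by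
    rw [← pow_mul, ← pow_add]; congr 1; ring, mul_assoc]
  rw [hq'] at h
  exact h

variable {k K : Type*} [Field k] [Finite k] [Field K] [Algebra k K]

/-- The bound on a cofinal set of exponents. -/
theorem exists_bound (hK : IsFunctionField k K) :
    ∃ (C : ℝ) (d : ℕ), 0 < d ∧ ∀ N : ℕ, 1 ≤ N →
      |(pointSum k K (d * N) : ℝ) - ((Nat.card k : ℝ) ^ (d * N) + 1)| ≤
        C * (Nat.card k : ℝ) ^ (((d * N : ℕ) : ℝ) / 2) := by
  classical
  obtain ⟨x, hx, hsep⟩ := exists_separatingElement hK.1 (isGeometric_of_perfectField hK)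
  haveI := IsFG.finiteDimensional_adjoin hK.1 hx
  set K₀ := IntermediateField.adjoin k ({x} : Set K)
  haveI := hsep
  haveI : Algebra.IsSeparable K₀ (SeparableClosure K) := Algebra.IsSeparable.trans K₀ K (SeparableClosure K)
  haveI : IsSepClosure K₀ (SeparableClosure K) := ⟨inferInstance, inferInstance⟩
  let L := IntermediateField.normalClosure K₀ K (SeparableClosure K)
  haveI : IsScalarTower k K L := IsScalarTower.of_algebraMap_eq fun c => by
    rw [IsScalarTower.algebraMap_apply k K₀ K, ← IsScalarTower.algebraMap_apply K₀ K L,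
      ← IsScalarTower.algebraMap_apply k K₀ L]
  haveI : FiniteDimensional K L := Module.Finite.right K₀ K L
  have hLfg : IsFG k L := isFG_extension (K := K) hK.1
  let k' := algebraicClosure k L
  haveI : FiniteDimensional k k' := by
    haveI := IsFG.finite_L hLfg (0 : Divisor k L)
    refine Submodule.finiteDimensional_of_le (S₁ := k'.toSubalgebra.toSubmodule) (S₂ := _root_.FunFld.L (0 : Divisor k L))
      fun y hy => ?_
    rcases eq_or_ne y 0 with rfl | hy0
    · exact zero_mem _
    refine (mem_L_iff).2 fun P => ?_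
    rw [Finsupp.zero_apply, WithZero.exp_zero]
    exact (val_eq_one_of_isAlgebraic P (mem_algebraicClosure_iff.1 hy) hy0).le
  haveI : Finite k' := Module.finite_of_finite k
  set X := algebraMap K L x
  have hXk : Transcendental k X := transcendental_algebraMap (K' := L) hx
  have hXt : Transcendental k' X := fun h => hXk (h.restrictScalars k)
  set F := IntermediateField.adjoin k' ({X} : Set L)
  have hK0F : ∀ a : K₀, algebraMap K₀ L a ∈ F := by
    rintro ⟨a, ha⟩
    show algebraMap K₀ L ⟨a, ha⟩ ∈ F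
    rw [IsScalarTower.algebraMap_apply K₀ K L]
    show algebraMap K L a ∈ F
    induction ha using IntermediateField.adjoin_induction with
    | mem w hw => rw [Set.mem_singleton_iff.mp hw]; exact IntermediateField.mem_adjoin_simple_self _ _
    | algebraMap c =>
      rw [← IsScalarTower.algebraMap_apply k K L, IsScalarTower.algebraMap_apply k k' L]
      exact IntermediateField.algebraMap_mem _ _
    | add a b _ _ ha hb => rw [map_add]; exact add_mem ha hb
    | inv a _ ha => rw [map_inv₀]; exact inv_mem ha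
    | mul a b _ _ ha hb => rw [map_mul]; exact mul_mem ha hb
  letI : Algebra K₀ F := ((algebraMap K₀ L).codRestrict F.toSubalgebra.toSubring hK0F).toAlgebra
  haveI : IsScalarTower K₀ F L := IsScalarTower.of_algebraMap_eq fun _ => rfl
  haveI : FiniteDimensional F L := Module.Finite.right K₀ F L
  haveI : IsGalois F L := IsGalois.tower_top_of_isGalois K₀ F L
  have hL : IsFunctionField k' L := ⟨⟨X, hXt, ‹_›⟩, fun y hy =>
    ⟨⟨y, mem_algebraicClosure_iff.2 (hy.restrictScalars k)⟩, rfl⟩⟩
  obtain ⟨C, d, hd, h⟩ := exists_bound_aux (k' := k') (L := L) hK hL hx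
  exact ⟨C, d, hd, h⟩

end GrothLib.FunFld.RH
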