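import Groth.Agent.Lib.FunFld.Separating
import Groth.Agent.Lib.FunFld.Ext
import Mathlib.FieldTheory.Relrank
import Mathlib.FieldTheory.PrimitiveElement
import Mathlib.FieldTheory.IsAlgClosed.AlgebraicClosure

/-!
Extension of the constants of a function field to an algebraic closure; the Frobenius endomorphism.
-/

set_option autoImplicit false
set_option linter.style.haveILetI false

namespace GrothLib.FunFld.RH

open _root_.FunFld GrothLib.FunFld WithZero
open scoped TensorProduct

universe u v w w'

variable {k : Type u} {K : Type v} {kb : Type w'} {Kb : Type w} [Field k] [Field K] [Field kb] [Field Kb]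
  [Algebra k K] [Algebra k kb] [Algebra K Kb] [Algebra kb Kb] [Algebra k Kb]
  [IsScalarTower k kb Kb] [IsScalarTower k K Kb]

/-- `kb ⊗ K` is a field. -/
theorem isField_tensor [PerfectField k] [Algebra.IsAlgebraic k kb] (hg : IsGeometric k K) : IsField (kb ⊗[k] K) := by
  classical
  haveI : Nontrivial (kb ⊗[k] K) :=
    (Algebra.TensorProduct.includeRight_injective (R := k) (A := kb) (B := K)
      (algebraMap k kb).injective).nontrivial
  refine ⟨exists_pair_ne _, mul_comm, fun {z} hz => ?_⟩
  obtain ⟨S, hS⟩ := TensorProduct.exists_finset z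
  let s : Finset kb := S.image Prod.fst
  let k' := IntermediateField.adjoin k (s : Set kb)
  haveI : FiniteDimensional k k' := IntermediateField.finiteDimensional_adjoin fun y _ =>
    Algebra.IsIntegral.isIntegral y
  let ι : k' ⊗[k] K →ₐ[k] kb ⊗[k] K := Algebra.TensorProduct.map k'.val (AlgHom.id k K)
  obtain ⟨w, hw⟩ : ∃ w, ι w = z := by
    rw [hS]
    refine Submodule.sum_mem (LinearMap.range ι.toLinearMap) fun p hp => ?_
    exact ⟨(⟨p.1, IntermediateField.subset_adjoin _ _ (Finset.mem_image_of_mem _ hp)⟩ : k') ⊗ₜ p.2, by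
      simp [ι]⟩
  have hw0 : w ≠ 0 := fun h => hz (by rw [← hw, h]; exact map_zero ι)
  obtain ⟨α, hα⟩ := Field.exists_primitive_element k k'
  have hint : IsIntegral k α := Algebra.IsIntegral.isIntegral α
  let eA : AdjoinRoot (minpoly k α) ≃ₐ[k] k' :=
    (IntermediateField.adjoinRootEquivAdjoin k hint).trans
      ((IntermediateField.equivOfEq hα).trans IntermediateField.topEquiv)
  haveI := Fact.mk (minpoly.irreducible hint)
  haveI : FiniteDimensional k (AdjoinRoot (minpoly k α)) := (minpoly.monic hint).finite_adjoinRoot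
  have hk' : IsField (k' ⊗[k] K) :=
    (Algebra.TensorProduct.congr eA.symm (AlgEquiv.refl : K ≃ₐ[k] K)).toMulEquiv.isField
      (hg (AdjoinRoot (minpoly k α)) inferInstance)
  obtain ⟨v, hv⟩ := hk'.mul_inv_cancel hw0
  exact ⟨ι v, hw ▸ ((map_mul ι w v).symm.trans ((congrArg ι hv).trans (ι.toRingHom.map_one)))⟩

variable (k K kb Kb) in
/-- `Kb = kb ⊗ K`. -/
def IsBar : Prop :=
  Function.Bijective (Algebra.TensorProduct.productMap (IsScalarTower.toAlgHom k kb Kb)
    (IsScalarTower.toAlgHom k K Kb))

/-- A field generated by `kb` and `K` is the tensor product. -/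
theorem isBar_of_adjoin [PerfectField k] [Algebra.IsAlgebraic k kb] (hg : IsGeometric k K)
    (htop : IntermediateField.adjoin kb (Set.range (algebraMap K Kb)) = ⊤) : IsBar k K kb Kb := by
  have hF := isField_tensor (K := K) (kb := kb) hg
  letI := hF.toField
  let φ := Algebra.TensorProduct.productMap (IsScalarTower.toAlgHom k kb Kb) (IsScalarTower.toAlgHom k K Kb)
  refine ⟨φ.toRingHom.injective, fun z => ?_⟩
  let S : IntermediateField kb Kb :=
    { φ.toRingHom.fieldRange with
      algebraMap_mem' := fun c => ⟨c ⊗ₜ 1, by simp [φ]⟩ }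
  have : (⊤ : IntermediateField kb Kb) ≤ S := by
    rw [← htop, IntermediateField.adjoin_le_iff]
    rintro _ ⟨a, rfl⟩
    exact ⟨1 ⊗ₜ a, by simp [φ]⟩
  exact this (IntermediateField.mem_top (x := z))

theorem IsBar.mem_span (h : IsBar k K kb Kb) (z : Kb) :
    z ∈ Submodule.span kb (Set.range (algebraMap K Kb)) := by
  obtain ⟨w, rfl⟩ := h.2 z
  induction w using TensorProduct.induction_on with
  | zero => rw [map_zero]; exact zero_mem _
  | tmul c a =>
    rw [Algebra.TensorProduct.productMap_apply_tmul, IsScalarTower.toAlgHom_apply,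
      IsScalarTower.toAlgHom_apply, ← Algebra.smul_def]
    exact Submodule.smul_mem _ _ (Submodule.subset_span ⟨a, rfl⟩)
  | add a b ha hb => rw [map_add]; exact add_mem ha hb

theorem IsBar.adjoin_eq_top (h : IsBar k K kb Kb) :
    IntermediateField.adjoin kb (Set.range (algebraMap K Kb)) = ⊤ := by
  refine eq_top_iff.2 fun z _ => ?_
  refine (Submodule.span_le (p := (IntermediateField.adjoin kb (Set.range (algebraMap K Kb))).toSubalgebra.toSubmodule)).2
    (IntermediateField.subset_adjoin _ _) (h.mem_span z)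

theorem IsBar.linearIndependent (h : IsBar k K kb Kb) {ι : Type*} {b : ι → K} (hb : LinearIndependent k b) :
    LinearIndependent kb fun i => algebraMap K Kb (b i) := by
  classical
  have h1 := Module.Flat.linearIndependent_one_tmul (S := kb) hb
  rw [linearIndependent_iff'] at h1 ⊢
  refine fun s c hsum => h1 s c (h.1 ?_)
  rw [map_zero, map_sum, ← hsum]
  refine Finset.sum_congr rfl fun j _ => ?_
  rw [TensorProduct.smul_tmul', Algebra.TensorProduct.productMap_apply_tmul]
  simp [Algebra.smul_def]

theorem IsBar.transcendental (h : IsBar k K kb Kb) {x : K} (hx : Transcendental k x) :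
    Transcendental kb (algebraMap K Kb x) := by
  intro halg
  obtain ⟨p, hp0, hp⟩ := halg
  refine hp0 (Polynomial.ext fun i => ?_)
  have hli := h.linearIndependent (linearIndependent_pow_of_transcendental hx)
  rw [linearIndependent_iff'] at hli
  rw [Polynomial.coeff_zero]
  by_cases hi : i ∈ Finset.range (p.natDegree + 1)
  · refine hli (Finset.range (p.natDegree + 1)) (fun j => p.coeff j) ?_ i hi
    rw [← hp, Polynomial.aeval_eq_sum_range]
    exact Finset.sum_congr rfl fun j _ => by simp [map_pow]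
  · exact Polynomial.coeff_eq_zero_of_natDegree_lt (by simpa using hi)

theorem IsBar.finiteDimensional (h : IsBar k K kb Kb) {x : K}
    [FiniteDimensional (IntermediateField.adjoin k ({x} : Set K)) K] :
    FiniteDimensional (IntermediateField.adjoin kb ({algebraMap K Kb x} : Set Kb)) Kb := by
  set E := IntermediateField.adjoin kb ({algebraMap K Kb x} : Set Kb)
  set F := IntermediateField.adjoin k ({x} : Set K)
  let b := Module.finBasis F K
  have hF : ∀ a ∈ F, algebraMap K Kb a ∈ E := by
    intro a ha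
    induction ha using IntermediateField.adjoin_induction with
    | mem w hw => rw [Set.mem_singleton_iff.mp hw]; exact IntermediateField.mem_adjoin_simple_self _ _
    | algebraMap c =>
      rw [← IsScalarTower.algebraMap_apply k K Kb, IsScalarTower.algebraMap_apply k kb Kb]
      exact IntermediateField.algebraMap_mem _ _
    | add a b _ _ ha hb => rw [map_add]; exact add_mem ha hb
    | inv a _ ha => rw [map_inv₀]; exact inv_mem ha
    | mul a b _ _ ha hb => rw [map_mul]; exact mul_mem ha hb
  refine Module.Finite.of_surjective (Fintype.linearCombination E fun i => algebraMap K Kb (b i)) fun z => ?_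
  rw [← LinearMap.mem_range, Fintype.range_linearCombination]
  suffices Submodule.span kb (Set.range (algebraMap K Kb)) ≤
      (Submodule.span E (Set.range fun i => algebraMap K Kb (b i))).restrictScalars kb from this (h.mem_span z)
  rw [Submodule.span_le]
  rintro _ ⟨a, rfl⟩
  rw [← b.sum_repr a, map_sum]
  refine Submodule.sum_mem _ fun i _ => ?_
  rw [Algebra.smul_def, map_mul]
  exact Submodule.smul_mem _ (⟨_, hF _ (b.repr a i).2⟩ : E) (Submodule.subset_span ⟨i, rfl⟩)

/-- The extension to an algebraic closure is a function field. -/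
theorem IsBar.isFunctionField [IsAlgClosed kb] (h : IsBar k K kb Kb) (hK : IsFunctionField k K) :
    IsFunctionField kb Kb := by
  obtain ⟨x, hx, hfin⟩ := hK.1
  refine ⟨⟨algebraMap K Kb x, h.transcendental hx, h.finiteDimensional (x := x)⟩, fun y hy => ?_⟩
  have hdeg := IsAlgClosed.degree_eq_one_of_irreducible kb (minpoly.irreducible hy.isIntegral)
  exact minpoly.degree_eq_one_iff.1 hdeg

theorem algHom_ext_of_adjoin (htop : IntermediateField.adjoin kb (Set.range (algebraMap K Kb)) = ⊤)
    {S : Type*} [Field S] [Algebra kb S] {f g : Kb →ₐ[kb] S}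
    (hfg : ∀ a : K, f (algebraMap K Kb a) = g (algebraMap K Kb a)) : f = g := by
  refine AlgHom.ext fun z => ?_
  have hz : z ∈ IntermediateField.adjoin kb (Set.range (algebraMap K Kb)) := htop ▸ IntermediateField.mem_top
  induction hz using IntermediateField.adjoin_induction with
  | mem w hw => obtain ⟨a, rfl⟩ := hw; exact hfg a
  | algebraMap c => rw [f.commutes, g.commutes]
  | add a b _ _ ha hb => rw [map_add, map_add, ha, hb]
  | inv a _ ha => rw [map_inv₀, map_inv₀, ha]
  | mul a b _ _ ha hb => rw [map_mul, map_mul, ha, hb]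

/-- Semilinear automorphisms from automorphisms of the constants. -/
theorem IsBar.exists_conj (h : IsBar k K kb Kb) (θ : kb ≃ₐ[k] kb) :
    ∃ Θ : Kb ≃+* Kb, (∀ a : K, Θ (algebraMap K Kb a) = algebraMap K Kb a) ∧
      ∀ c : kb, Θ (algebraMap kb Kb c) = algebraMap kb Kb (θ c) := by
  let e : kb ⊗[k] K ≃ₐ[k] Kb := AlgEquiv.ofBijective _ h
  have hl : ∀ c : kb, e (c ⊗ₜ 1) = algebraMap kb Kb c := fun c => by simp [e]
  have hr : ∀ a : K, e (1 ⊗ₜ a) = algebraMap K Kb a := fun a => by simp [e]
  refine ⟨((e.symm.trans (Algebra.TensorProduct.congr θ AlgEquiv.refl)).trans e).toRingEquiv, fun a => ?_, fun c => ?_⟩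
  · show e (Algebra.TensorProduct.congr θ AlgEquiv.refl (e.symm (algebraMap K Kb a))) = _
    rw [← hr, e.symm_apply_apply]
    simp
  · show e (Algebra.TensorProduct.congr θ AlgEquiv.refl (e.symm (algebraMap kb Kb c))) = _
    rw [← hl, e.symm_apply_apply, ← hl]
    simp

/-- The `Q`-th power map on `K`, linearly extended. -/
theorem IsBar.exists_tau [Finite k] (h : IsBar k K kb Kb) (m : ℕ) :
    ∃ τ : Kb →ₐ[kb] Kb, ∀ a : K, τ (algebraMap K Kb a) = algebraMap K Kb a ^ Nat.card k ^ m := by
  classical
  letI := Fintype.ofFinite k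
  let e : kb ⊗[k] K ≃ₐ[k] Kb := AlgEquiv.ofBijective _ h
  have hl : ∀ c : kb, e (c ⊗ₜ 1) = algebraMap kb Kb c := fun c => by simp [e]
  have hr : ∀ a : K, e (1 ⊗ₜ a) = algebraMap K Kb a := fun a => by simp [e]
  let F : K →ₐ[k] K := FiniteField.frobeniusAlgHom k K ^ m
  have hF : ∀ a, F a = a ^ Nat.card k ^ m := by
    intro a
    rw [Nat.card_eq_fintype_card]
    induction m with
    | zero => simp [F]
    | succ m ih =>
      show (FiniteField.frobeniusAlgHom k K ^ (m + 1)) a = _
      rw [pow_succ', AlgHom.mul_apply, ih, FiniteField.coe_frobeniusAlgHom]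
      show (a ^ Fintype.card k ^ m) ^ Fintype.card k = _
      rw [← pow_mul, ← pow_succ]
  let τ : Kb →ₐ[k] Kb := (e : kb ⊗[k] K →ₐ[k] Kb).comp
    ((Algebra.TensorProduct.map (AlgHom.id k kb) F).comp (e.symm : Kb →ₐ[k] kb ⊗[k] K))
  have hc : ∀ c : kb, τ (algebraMap kb Kb c) = algebraMap kb Kb c := fun c => by
    show e (Algebra.TensorProduct.map (AlgHom.id k kb) F (e.symm (algebraMap kb Kb c))) = _
    rw [← hl, e.symm_apply_apply]
    simp
  refine ⟨{ (τ : Kb →+* Kb) with commutes' := hc }, fun a => ?_⟩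
  show e (Algebra.TensorProduct.map (AlgHom.id k kb) F (e.symm (algebraMap K Kb a))) = _
  rw [← hr, e.symm_apply_apply]
  simp only [Algebra.TensorProduct.map_tmul, AlgHom.id_apply, hF, hr, map_pow]

/-- The values of the extended power map are powers. -/
theorem exists_pow_eq_tau [IsAlgClosed kb] (h : IsBar k K kb Kb) {p n : ℕ} [ExpChar Kb p] {τ : Kb →ₐ[kb] Kb}
    (hτ : ∀ a : K, τ (algebraMap K Kb a) = algebraMap K Kb a ^ p ^ n) (y : Kb) : ∃ y', τ y = y' ^ p ^ n := by
  have hy : y ∈ IntermediateField.adjoin kb (Set.range (algebraMap K Kb)) :=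
    h.adjoin_eq_top ▸ IntermediateField.mem_top
  induction hy using IntermediateField.adjoin_induction with
  | mem w hw => obtain ⟨a, rfl⟩ := hw; exact ⟨_, hτ a⟩
  | algebraMap c =>
    obtain ⟨d, hd⟩ := IsAlgClosed.exists_pow_nat_eq c (pow_pos (expChar_pos Kb p) n)
    exact ⟨algebraMap kb Kb d, by rw [τ.commutes, ← map_pow, hd]⟩
  | add a b _ _ ha hb =>
    obtain ⟨a', ha'⟩ := ha; obtain ⟨b', hb'⟩ := hb
    exact ⟨a' + b', by rw [map_add, ha', hb', add_pow_expChar_pow]⟩
  | inv a _ ha => obtain ⟨a', ha'⟩ := ha; exact ⟨a'⁻¹, by rw [map_inv₀, ha', inv_pow]⟩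
  | mul a b _ _ ha hb =>
    obtain ⟨a', ha'⟩ := ha; obtain ⟨b', hb'⟩ := hb
    exact ⟨a' * b', by rw [map_mul, ha', hb', mul_pow]⟩

/-- The degree of the extended power map. -/
theorem finrank_fieldRange_tau [IsAlgClosed kb] (h : IsBar k K kb Kb) (hK : IsFunctionField k K) {Q : ℕ}
    (hQ : 0 < Q) {τ : Kb →ₐ[kb] Kb} (hτ : ∀ a : K, τ (algebraMap K Kb a) = algebraMap K Kb a ^ Q) :
    Module.finrank τ.fieldRange Kb = Q := by
  obtain ⟨x, hx, hfin⟩ := hK.1
  have hb := h.isFunctionField hK
  set X := algebraMap K Kb x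
  have hX : Transcendental kb X := h.transcendental hx
  have hXQ : Transcendental kb (X ^ Q) := hX.pow hQ
  haveI := IsFG.finiteDimensional_adjoin hb.1 hX
  set A := IntermediateField.adjoin kb ({X} : Set Kb)
  set A' := IntermediateField.adjoin kb ({X ^ Q} : Set Kb)
  have hmap : A.map τ = A' := by
    rw [IntermediateField.adjoin_map, Set.image_singleton, hτ x]
  have hle : A' ≤ τ.fieldRange := by
    rw [IntermediateField.adjoin_simple_le_iff]; exact ⟨X, hτ x⟩
  have h1 := IntermediateField.relfinrank_mul_finrank_top hle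
  have h2 : IntermediateField.relfinrank A' τ.fieldRange = Module.finrank A Kb := by
    rw [← hmap, AlgHom.fieldRange_eq_map, IntermediateField.relfinrank_map_map,
      IntermediateField.relfinrank_top_right]
  have h3 : (Module.finrank A' Kb : ℤ) = Q * Module.finrank A Kb := by
    rw [← IsFG.deg_poleDiv hb.1 hXQ, ← IsFG.deg_poleDiv hb.1 hX]
    have : poleDiv (k := kb) (X ^ Q) = (Q : ℤ) • poleDiv (k := kb) X := Finsupp.ext fun P => by
      rw [Finsupp.smul_apply, IsFG.poleDiv_apply hb.1, IsFG.poleDiv_apply hb.1, ord_pow, smul_eq_mul,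
        mul_max_of_nonneg _ _ (Int.natCast_nonneg Q), mul_zero, mul_neg]
    rw [this, deg_eq_degHom, deg_eq_degHom, Finsupp.sum_smul_index (fun P => by simp), Finsupp.mul_sum]
    exact Finsupp.sum_congr fun P _ => by ring
  have h3' : Module.finrank A' Kb = Q * Module.finrank A Kb := by exact_mod_cast h3
  rw [h2, h3', mul_comm Q] at h1
  exact Nat.eq_of_mul_eq_mul_left Module.finrank_pos h1

/-- The pullback of a place along a ring homomorphism. -/
theorem exists_place_of_hom {F : Type*} {F' : Type*} {c : Type*} {c' : Type*} [Field F] [Field F'] [Field c]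
    [Field c'] [Algebra c F] [Algebra c' F'] (Q : Place c' F') (φ : F →+* F')
    (hconst : ∀ a : c, val Q (φ (algebraMap c F a)) ≤ 1) {z : F} (hz0 : z ≠ 0) (hz : val Q (φ z) ≠ 1) :
    ∃ (P : Place c F) (e : ℕ), 0 < e ∧ ∀ a : F, val Q (φ a) = val P a ^ e := by
  classical
  let H : AddSubgroup ℤ :=
    { carrier := {n | ∃ a : F, a ≠ 0 ∧ Q.ord (φ a) = n}
      add_mem' := by
        rintro _ _ ⟨a, ha, rfl⟩ ⟨b, hb, rfl⟩
        exact ⟨a * b, mul_ne_zero ha hb, by
          rw [map_mul, ord_mul Q (by simpa using ha) (by simpa using hb)]⟩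
      zero_mem' := ⟨1, one_ne_zero, by simp⟩
      neg_mem' := by
        rintro _ ⟨a, ha, rfl⟩
        exact ⟨a⁻¹, inv_ne_zero ha, by rw [map_inv₀, ord_inv]⟩ }
  obtain ⟨g, hg⟩ := Int.subgroup_cyclic H
  have hmem : ∀ a : F, a ≠ 0 → (g.natAbs : ℤ) ∣ Q.ord (φ a) := fun a ha => by
    have : Q.ord (φ a) ∈ H := ⟨a, ha, rfl⟩
    rw [hg, AddSubgroup.mem_closure_singleton] at this
    obtain ⟨t, ht⟩ := this
    rw [← ht, zsmul_eq_mul, Int.natAbs_dvd]
    exact dvd_mul_left _ _
  have hg0 : g ≠ 0 := by
    rintro rfl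
    have := hmem z hz0
    rw [Int.natAbs_zero, Nat.cast_zero, zero_dvd_iff] at this
    exact hz (by rw [val_eq Q (by simpa using hz0), this]; simp)
  set e := g.natAbs
  have he' : (0 : ℤ) < e := by exact_mod_cast Int.natAbs_pos.2 hg0
  obtain ⟨x₀, hx₀, hx₀e⟩ : ∃ a : F, a ≠ 0 ∧ Q.ord (φ a) = e := by
    have : (e : ℤ) ∈ H := by
      rcases Int.natAbs_eq g with h | h
      · rw [hg, ← h]; exact AddSubgroup.subset_closure rfl
      · rw [hg, show (e : ℤ) = -g by omega]
        exact neg_mem (AddSubgroup.subset_closure rfl)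
    exact this
  let f : F → WithZero (Multiplicative ℤ) := fun a => if a = 0 then 0 else exp (-(Q.ord (φ a) / e))
  have hf0 : ∀ a, a ≠ 0 → f a = exp (-(Q.ord (φ a) / e)) := fun a ha => if_neg ha
  let v : Valuation F (WithZero (Multiplicative ℤ)) :=
    { toFun := f
      map_zero' := if_pos rfl
      map_one' := by rw [hf0 _ one_ne_zero]; simp
      map_mul' := fun a b => by
        by_cases ha : a = 0
        · simp [f, ha]
        by_cases hb : b = 0
        · simp [f, hb]
        rw [hf0 _ (mul_ne_zero ha hb), hf0 _ ha, hf0 _ hb, map_mul,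
          ord_mul Q (by simpa using ha) (by simpa using hb), Int.add_ediv_of_dvd_left (hmem a ha),
          ← exp_add]
        congr 1; ring
      map_add_le_max' := fun a b => by
        by_cases ha : a = 0
        · simp [f, ha]
        by_cases hb : b = 0
        · simp [f, hb]
        by_cases hab : a + b = 0
        · simp [f, hab]
        have ha' : φ a ≠ 0 := by simpa using ha
        have hb' : φ b ≠ 0 := by simpa using hb
        have hab' : φ (a + b) ≠ 0 := (map_ne_zero φ).2 hab
        have h := (val Q).map_add (φ a) (φ b)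
        rw [← map_add, val_eq Q ha', val_eq Q hb', val_eq Q hab', le_max_iff, exp_le_exp, exp_le_exp, neg_le_neg_iff, neg_le_neg_iff] at h
        rcases h with h | h
        · refine le_max_of_le_left ?_
          rw [hf0 _ hab, hf0 _ ha, exp_le_exp, neg_le_neg_iff]
          exact Int.ediv_le_ediv he' h
        · refine le_max_of_le_right ?_
          rw [hf0 _ hab, hf0 _ hb, exp_le_exp, neg_le_neg_iff]
          exact Int.ediv_le_ediv he' h }
  refine ⟨⟨v, fun a => ?_, fun r => ?_⟩, e, by exact_mod_cast he', fun a => ?_⟩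
  · show f (algebraMap c F a) ≤ 1
    by_cases ha : algebraMap c F a = 0
    · simp [f, ha]
    rw [hf0 _ ha, ← exp_zero, exp_le_exp, neg_nonpos]
    exact Int.ediv_nonneg ((val_le_one_iff Q (by simpa using ha)).1 (hconst a)) (Int.natCast_nonneg _)
  · by_cases hr : r = 0
    · exact ⟨0, by rw [hr]; exact map_zero v⟩
    refine ⟨x₀ ^ (-log r), ?_⟩
    have hv : v x₀ = exp (-1) := by
      show f x₀ = _
      rw [hf0 _ hx₀, hx₀e, Int.ediv_self he'.ne']
    rw [map_zpow₀, hv, ← exp_zsmul]
    simp [exp_log hr]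
  · show val Q (φ a) = f a ^ e
    by_cases ha : a = 0
    · simp [f, ha, zero_pow (show e ≠ 0 by omega)]
    rw [hf0 _ ha, ← exp_nsmul, val_eq Q (by simpa using ha)]
    congr 1
    obtain ⟨t, ht⟩ := hmem a ha
    rw [ht, Int.mul_ediv_cancel_left _ he'.ne', nsmul_eq_mul]
    push_cast; ring

end GrothLib.FunFld.RH
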