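import Groth.Agent.Lib.FunFld.RH.Bar
import Groth.Agent.Lib.FunFld.ZetaCount
import Groth.Agent.Lib.FunFld.Gaps
import Groth.Agent.Lib.FunFld.GenusZero
import Groth.Prelude.Def_W4bk4goldsch45p2
import Mathlib.FieldTheory.Fixed
import Mathlib.FieldTheory.Normal.Basic
import Mathlib.FieldTheory.PrimitiveElement
import Mathlib.FieldTheory.Finite.Basic

/-!
Places of the extension to an algebraic closure; the places fixed by Frobenius.
-/

set_option autoImplicit false
set_option linter.style.haveILetI false
set_option linter.unusedSectionVars false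

namespace GrothLib.FunFld.RH

open _root_.FunFld GrothLib.FunFld WithZero
open scoped TensorProduct

universe u v w w'

variable {k : Type u} {K : Type v} {kb : Type w'} {Kb : Type w} [Field k] [Finite k] [Field K] [Field kb]
  [IsAlgClosed kb] [Field Kb] [Algebra k K] [Algebra k kb] [Algebra.IsAlgebraic k kb] [Algebra K Kb]
  [Algebra kb Kb] [Algebra k Kb] [IsScalarTower k kb Kb] [IsScalarTower k K Kb]

noncomputable local instance (priority := high) resSMul (P : Place k K) :
    SMul k (IsLocalRing.ResidueField P.O) := Algebra.toSMul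

noncomputable local instance (priority := high) resModule (P : Place k K) :
    Module k (IsLocalRing.ResidueField P.O) := Algebra.toModule

/-- The place `S` lies above `P` and induces the embedding `e` of the residue field. -/
def Spec (S : Place kb Kb) (P : Place k K) (e : IsLocalRing.ResidueField P.O →ₐ[k] kb) : Prop :=
  ∀ o : P.O, val S (algebraMap K Kb (o : K) - algebraMap kb Kb (e (res P o))) < 1

variable {S S' : Place kb Kb} {P : Place k K} {e : IsLocalRing.ResidueField P.O →ₐ[k] kb}

theorem eq_zero_of_val_const_lt {c : kb} (h : val S (algebraMap kb Kb c) < 1) : c = 0 := by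
  by_contra hc
  rw [val_const S hc] at h
  exact lt_irrefl _ h

theorem val_add_lt_one {a b : Kb} (ha : val S a < 1) (hb : val S b < 1) : val S (a + b) < 1 :=
  ((val S).map_add a b).trans_lt (max_lt ha hb)

theorem val_sub_lt_one {a b : Kb} (ha : val S a < 1) (hb : val S b < 1) : val S (a - b) < 1 :=
  ((val S).map_sub a b).trans_lt (max_lt ha hb)

theorem Spec.val_lt_one (hS : Spec S P e) {a : K} (ha : val P a < 1) : val S (algebraMap K Kb a) < 1 := by
  have h := hS ⟨a, ha.le⟩
  rwa [(res_eq_zero_iff P _).2 ha, map_zero, map_zero, sub_zero] at h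

theorem Spec.val_le_one (hS : Spec S P e) (o : P.O) : val S (algebraMap K Kb (o : K)) ≤ 1 := by
  rw [← sub_add_cancel (algebraMap K Kb (o : K)) (algebraMap kb Kb (e (res P o)))]
  exact ((val S).map_add _ _).trans (max_le (hS o).le (S.2.1 _))

theorem Spec.ord_eq (hS : Spec S P e) {π : K} (hπ : val P π = exp (-1)) :
    0 < S.ord (algebraMap K Kb π) := by
  have h0 : π ≠ 0 := fun h => by rw [h, map_zero] at hπ; exact exp_ne_zero hπ.symm
  refine (val_lt_one_iff S (by simpa using h0)).1 (hS.val_lt_one ?_)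
  rw [hπ, ← exp_zero, exp_lt_exp]; omega

/-- Every place of the extension lies above a place with an embedding of the residue field. -/
theorem exists_spec (h : IsBar k K kb Kb) (hK : IsFunctionField k K) (S : Place kb Kb) :
    ∃ (P : Place k K) (e : IsLocalRing.ResidueField P.O →ₐ[k] kb), Spec S P e := by
  classical
  have hKb := h.isFunctionField hK
  obtain ⟨x, hx, -⟩ := hK.1
  obtain ⟨z, hz0, hz⟩ : ∃ z : K, z ≠ 0 ∧ val S (algebraMap K Kb z) ≠ 1 := by
    rcases le_or_gt (val S (algebraMap K Kb x)) 1 with hle | hgt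
    · obtain ⟨c, hc⟩ := exists_residue hKb.1 S hle
      have hint : IsIntegral k c := Algebra.IsIntegral.isIntegral c
      have hg0 : Polynomial.aeval x (minpoly k c) ≠ 0 := fun h0 =>
        hx ⟨_, minpoly.ne_zero hint, h0⟩
      refine ⟨_, hg0, ne_of_lt ?_⟩
      obtain ⟨q, hq⟩ := (Polynomial.dvd_iff_isRoot.2 (show ((minpoly k c).map (algebraMap k kb)).IsRoot c by
        rw [Polynomial.IsRoot, Polynomial.eval_map_algebraMap, minpoly.aeval]))
      rw [← Polynomial.aeval_algebraMap_apply, ← Polynomial.aeval_map_algebraMap kb, hq, map_mul, map_mul,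
        map_sub, Polynomial.aeval_X, Polynomial.aeval_C]
      refine lt_of_le_of_lt (mul_le_of_le_one_right' ?_) hc
      clear hq
      induction q using Polynomial.induction_on' with
      | add p r hp hr => rw [map_add]; exact ((val S).map_add _ _).trans (max_le hp hr)
      | monomial n a =>
        rw [Polynomial.aeval_monomial, map_mul, map_pow]
        exact mul_le_one' (S.2.1 a) (pow_le_one₀ zero_le hle)
    · exact ⟨x, fun h0 => hx (h0 ▸ isAlgebraic_zero), hgt.ne'⟩
  obtain ⟨P, m, hm, hP⟩ := exists_place_of_hom S (algebraMap K Kb) (fun a => by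
    rw [← IsScalarTower.algebraMap_apply k K Kb, IsScalarTower.algebraMap_apply k kb Kb]
    exact S.2.1 _) hz0 hz
  have hle : ∀ o : P.O, val S (algebraMap K Kb (o : K)) ≤ 1 := fun o => by
    rw [hP]; exact pow_le_one₀ zero_le o.2
  choose g hg using fun o : P.O => exists_residue hKb.1 S (hle o)
  have huniq : ∀ (o : P.O) (c : kb), val S (algebraMap K Kb (o : K) - algebraMap kb Kb c) < 1 → g o = c :=
    fun o c hc => by
      refine sub_eq_zero.1 (eq_zero_of_val_const_lt (S := S) ?_)
      rw [map_sub, show algebraMap kb Kb (g o) - algebraMap kb Kb c =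
        (algebraMap K Kb (o : K) - algebraMap kb Kb c) - (algebraMap K Kb (o : K) - algebraMap kb Kb (g o)) by ring]
      exact val_sub_lt_one hc (hg o)
  let f : P.O →ₐ[k] kb :=
    { toFun := g
      map_one' := huniq 1 1 (by simp)
      map_zero' := huniq 0 0 (by simp)
      map_add' := fun a b => huniq _ _ (by
        rw [Subring.coe_add, map_add, map_add, add_sub_add_comm]
        exact val_add_lt_one (hg a) (hg b))
      map_mul' := fun a b => huniq _ _ (by
        rw [Subring.coe_mul, map_mul, map_mul,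
          show algebraMap K Kb (a : K) * algebraMap K Kb (b : K) - algebraMap kb Kb (g a) * algebraMap kb Kb (g b) =
            (algebraMap K Kb (a : K) - algebraMap kb Kb (g a)) * algebraMap K Kb (b : K) +
              algebraMap kb Kb (g a) * (algebraMap K Kb (b : K) - algebraMap kb Kb (g b)) by ring]
        refine val_add_lt_one ?_ ?_ <;> rw [map_mul]
        · exact lt_of_le_of_lt (mul_le_of_le_one_right' (hle b)) (hg a)
        · exact lt_of_le_of_lt (mul_le_of_le_one_left' (S.2.1 _)) (hg b))
      commutes' := fun c => huniq _ _ (by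
        rw [algebraMap_O_coe, ← IsScalarTower.algebraMap_apply k K Kb, IsScalarTower.algebraMap_apply k kb Kb, sub_self,
          map_zero]
        exact zero_lt_one) }
  haveI : IsLocalHom (f : P.O →+* kb) := ⟨fun o ho => by
    by_contra hnu
    refine ho.ne_zero (huniq o 0 ?_)
    rw [map_zero, sub_zero, hP]
    exact pow_lt_one₀ zero_le ((res_eq_zero_iff P o).1 ((IsLocalRing.residue_eq_zero_iff o).2 hnu)) hm.ne'⟩
  let e : IsLocalRing.ResidueField P.O →ₐ[k] kb :=
    { IsLocalRing.ResidueField.lift (f : P.O →+* kb) with commutes' := fun c => f.commutes c }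
  exact ⟨P, e, fun o => hg o⟩

theorem spec_unique_right {P' : Place k K} {e' : IsLocalRing.ResidueField P'.O →ₐ[k] kb} (hS : Spec S P e)
    (hS' : Spec S P' e') : P' = P := by
  by_contra hne
  obtain ⟨a, ha1, ha2⟩ := exists_le_one_and_one_lt hne
  have ha0 : a ≠ 0 := by rintro rfl; simp at ha2
  have h1 : val S (algebraMap K Kb a⁻¹) < 1 :=
    hS.val_lt_one (by rw [map_inv₀]; exact inv_lt_one_of_one_lt₀ ha2)
  have h2 : val S (algebraMap K Kb a) ≤ 1 := hS'.val_le_one ⟨a, ha1⟩
  have h3 : val S (algebraMap K Kb a) * val S (algebraMap K Kb a⁻¹) < 1 :=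
    lt_of_le_of_lt (mul_le_of_le_one_left' h2) h1
  rw [← map_mul, ← map_mul, mul_inv_cancel₀ ha0, map_one, map_one] at h3
  exact lt_irrefl _ h3

theorem spec_unique_emb {e' : IsLocalRing.ResidueField P.O →ₐ[k] kb} (hS : Spec S P e) (hS' : Spec S P e') :
    e' = e := by
  refine AlgHom.ext fun a => ?_
  obtain ⟨o, rfl⟩ := res_surjective P a
  refine sub_eq_zero.1 (eq_zero_of_val_const_lt (S := S) ?_)
  rw [map_sub, show algebraMap kb Kb (e' (res P o)) - algebraMap kb Kb (e (res P o)) =
    (algebraMap K Kb (o : K) - algebraMap kb Kb (e (res P o))) -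
      (algebraMap K Kb (o : K) - algebraMap kb Kb (e' (res P o))) by ring]
  exact val_sub_lt_one (hS o) (hS' o)

/-- A place above `P` inducing a given embedding. -/
theorem exists_place_spec (h : IsBar k K kb Kb) (hK : IsFunctionField k K) (P : Place k K)
    (e : IsLocalRing.ResidueField P.O →ₐ[k] kb) : ∃ S : Place kb Kb, Spec S P e := by
  classical
  have hKb := h.isFunctionField hK
  -- a function with a pole only at `P`
  have hd := IsFG.deg_pos hK.1 P
  set m := 2 * genus k K + 1
  have hgap : ¬ IsGap P m := fun hg => by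
    have h1 := ell_eq_of_deg_ge hK (D := Finsupp.single P (m : ℤ)) (by
      rw [deg_single]
      have : (m : ℤ) ≤ (m : ℤ) * (P.deg : ℤ) := le_mul_of_one_le_right (by omega) (by omega)
      omega)
    have h2 := ell_eq_of_deg_ge hK (D := Finsupp.single P ((m : ℤ) - 1)) (by
      rw [deg_single]
      have : ((m : ℤ) - 1) ≤ ((m : ℤ) - 1) * (P.deg : ℤ) := le_mul_of_one_le_right (by omega) (by omega)
      omega)
    have h3 : ell (Finsupp.single P (m : ℤ) : Divisor k K) = ell (Finsupp.single P ((m : ℤ) - 1) : Divisor k K) :=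
      congrArg (fun W : Submodule k K => Module.finrank k W) hg
    rw [deg_single] at h1 h2
    rw [h3] at h1
    nlinarith
  obtain ⟨z, hz0, hz, hzo⟩ := exists_exact_of_not_gap hK hgap
  rw [mem_L_single_iff hz0 (by positivity)] at hz
  have hzt : Transcendental k z := transcendental_of_ord_ne_zero (P := P) (by omega)
  have hZ := h.transcendental hzt
  haveI := IsFG.finiteDimensional_adjoin hKb.1 hZ
  obtain ⟨S0, hS0⟩ : ∃ S0 : Place kb Kb, S0.ord (algebraMap K Kb z) < 0 := by
    by_contra hno
    push Not at hno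
    have h1 := IsFG.deg_poleDiv hKb.1 hZ
    rw [show poleDiv (k := kb) (algebraMap K Kb z) = 0 from Finsupp.ext fun R => by
      rw [IsFG.poleDiv_apply hKb.1]; have := hno R; simp; omega, deg_zero] at h1
    have := Module.finrank_pos (R := IntermediateField.adjoin kb ({algebraMap K Kb z} : Set Kb)) (M := Kb)
    omega
  obtain ⟨P0, e0, hP0⟩ := exists_spec h hK S0
  have hPP : P0 = P := by
    by_contra hne
    have := hP0.val_le_one ⟨z, (val_le_one_iff P0 hz0).2 (hz.2 P0 hne)⟩
    rw [val_le_one_iff S0 (by simpa using hz0)] at this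
    change (0 : ℤ) ≤ S0.ord (algebraMap K Kb z) at this
    omega
  subst hPP
  -- adjust the embedding
  let ψ : e0.fieldRange →ₐ[k] kb := e.comp (AlgEquiv.ofInjectiveField e0).symm.toAlgHom
  haveI : Normal k kb := ⟨fun y => IsAlgClosed.splits _⟩
  let θ : kb ≃ₐ[k] kb := AlgEquiv.ofBijective (ψ.liftNormal kb) (Algebra.IsAlgebraic.algHom_bijective _)
  have hθ : ∀ a, θ (e0 a) = e a := fun a => by
    have h1 := ψ.liftNormal_commutes kb ((AlgEquiv.ofInjectiveField e0) a)
    rw [Algebra.algebraMap_self, RingHom.id_apply] at h1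
    refine (h1.trans ?_)
    show e ((AlgEquiv.ofInjectiveField e0).symm _) = _
    rw [AlgEquiv.symm_apply_apply]
  obtain ⟨Θ, hΘK, hΘc⟩ := h.exists_conj θ.symm
  let S : Place kb Kb :=
    ⟨(val S0).comap (Θ : Kb →+* Kb), fun c => by
      show val S0 (Θ (algebraMap kb Kb c)) ≤ 1
      rw [hΘc]; exact S0.2.1 _, fun r => by
      obtain ⟨y, hy⟩ := S0.2.2 r
      exact ⟨Θ.symm y, by show val S0 (Θ (Θ.symm y)) = r; rw [Θ.apply_symm_apply]; exact hy⟩⟩
  refine ⟨S, fun o => ?_⟩
  show val S0 (Θ (_ - _)) < 1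
  rw [map_sub, hΘK, hΘc, ← hθ, θ.symm_apply_apply]
  exact hP0 o

/-- Uniqueness. -/
theorem spec_unique (h : IsBar k K kb Kb) (hK : IsFunctionField k K) (hS : Spec S P e) (hS' : Spec S' P e) :
    S' = S := by
  classical
  have hfin : @Module.Finite k (IsLocalRing.ResidueField P.O) _ _ Algebra.toModule :=
    IsFG.finite_residueField hK.1 P
  let b := Module.finBasis k (IsLocalRing.ResidueField P.O)
  choose bt hbt using fun i => res_surjective P (b i)
  obtain ⟨π, hπ0, hπ⟩ := exists_val_eq P (-1)
  let R : Submodule kb Kb := Submodule.span kb (Set.range fun o : P.O => algebraMap K Kb (o : K))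
  have hRmem : ∀ o : P.O, algebraMap K Kb (o : K) ∈ R := fun o => Submodule.subset_span ⟨o, rfl⟩
  let lin : (Fin (Module.finrank k (IsLocalRing.ResidueField P.O)) → kb) → Kb := fun c => ∑ i, c i • algebraMap K Kb (bt i : K)
  -- reduction
  have hred : ∀ w ∈ R, ∃ c w', w' ∈ R ∧ w = lin c + algebraMap K Kb π * w' := by
    intro w hw
    induction hw using Submodule.span_induction with
    | mem y hy =>
      obtain ⟨o, rfl⟩ := hy
      set o' : P.O := o - ∑ i, algebraMap k P.O (b.repr (res P o) i) * bt i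
      have h0 : res P o' = 0 := by
        simp only [o', map_sub, map_sum, map_mul, hbt, AlgHom.commutes]
        simp only [← Algebra.smul_def]
        rw [b.sum_repr, sub_self]
      have hv : val P (o' : K) < 1 := (res_eq_zero_iff P o').1 h0
      have hv' : val P ((o' : K) / π) ≤ 1 := by
        rw [map_div₀, hπ, div_le_one₀ (zero_lt_iff.2 exp_ne_zero), show (-1 : ℤ) = 0 - 1 by ring,
          le_exp_sub_one_iff, exp_zero]
        exact hv
      refine ⟨fun i => algebraMap k kb (b.repr (res P o) i), _, hRmem ⟨_, hv'⟩, ?_⟩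
      rw [← map_mul, mul_div_cancel₀ _ hπ0]
      have ho : (o' : K) = (o : K) - ∑ i, algebraMap k K (b.repr (res P o) i) * (bt i : K) := by
        simp only [o', AddSubgroupClass.coe_sub, AddSubmonoidClass.coe_finsetSum, MulMemClass.coe_mul,
          algebraMap_O_coe]
      rw [ho, map_sub, map_sum]
      simp only [lin, Algebra.smul_def, map_mul, ← IsScalarTower.algebraMap_apply k kb Kb,
        ← IsScalarTower.algebraMap_apply k K Kb]
      exact (add_sub_cancel _ _).symm
    | zero => exact ⟨0, 0, zero_mem _, by simp [lin]⟩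
    | add y z _ _ hy hz =>
      obtain ⟨c, y', hy', rfl⟩ := hy
      obtain ⟨c', z', hz', rfl⟩ := hz
      refine ⟨c + c', y' + z', add_mem hy' hz', ?_⟩
      simp only [lin, Pi.add_apply, add_smul, Finset.sum_add_distrib]
      ring
    | smul r y _ hy =>
      obtain ⟨c, y', hy', rfl⟩ := hy
      refine ⟨r • c, r • y', Submodule.smul_mem _ r hy', ?_⟩
      simp only [lin, smul_add, Finset.smul_sum, Pi.smul_apply, smul_eq_mul, mul_smul_comm, SemigroupAction.mul_smul]
  -- the evaluation
  let ev : (Fin (Module.finrank k (IsLocalRing.ResidueField P.O)) → kb) →ₗ[kb] ((IsLocalRing.ResidueField P.O →ₐ[k] kb) → kb) :=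
    LinearMap.pi fun e' => Fintype.linearCombination kb fun i => e' (b i)
  have hev : ∀ c e', ev c e' = ∑ i, c i * e' (b i) := fun c e' => by
    simp [ev, Fintype.linearCombination_apply]
  have hcard : Fintype.card (IsLocalRing.ResidueField P.O →ₐ[k] kb) = Module.finrank k (IsLocalRing.ResidueField P.O) := AlgHom.card k (IsLocalRing.ResidueField P.O) kb
  have hsurj : Function.Surjective ev := by
    rw [← LinearMap.range_eq_top]
    by_contra hne
    obtain ⟨x, -, hx⟩ := SetLike.exists_of_lt (lt_top_iff_ne_top.2 hne)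
    obtain ⟨L, hL, hker⟩ := Submodule.exists_dual_map_eq_bot_of_notMem hx inferInstance
    rw [← LinearMap.le_ker_iff_map] at hker
    have hli := Fintype.linearIndependent_iff.1 (linearIndependent_toLinearMap k (IsLocalRing.ResidueField P.O) kb)
    have hsum : ∑ e' : IsLocalRing.ResidueField P.O →ₐ[k] kb, L (Pi.single e' 1) • e'.toLinearMap = 0 := by
      refine b.ext fun i => ?_
      have h1 : L (ev (Pi.single i 1)) = 0 := hker ⟨_, rfl⟩
      rw [pi_eq_sum_univ' (ev (Pi.single i 1)), map_sum] at h1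
      rw [LinearMap.zero_apply, LinearMap.sum_apply, ← h1]
      refine Finset.sum_congr rfl fun e' _ => ?_
      simp [hev, mul_comm, Pi.single_apply]
    refine hL ?_
    rw [show L = 0 from LinearMap.pi_ext' fun e' => LinearMap.ext_ring (by
      simpa using hli _ hsum e')]
    rfl
  have hinj : Function.Injective ev :=
    (LinearMap.injective_iff_surjective_of_finrank_eq_finrank (by simp [hcard])).2 hsurj
  -- the value of `lin c` at a place with a given embedding
  have hval : ∀ (T : Place kb Kb) (e' : IsLocalRing.ResidueField P.O →ₐ[k] kb), Spec T P e' → ∀ c,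
      val T (lin c - algebraMap kb Kb (ev c e')) < 1 := by
    intro T e' hT c
    rw [hev, map_sum, ← Finset.sum_sub_distrib]
    refine (val T).map_sum_lt one_ne_zero fun i _ => ?_
    rw [map_mul, ← Algebra.smul_def, ← smul_sub, Algebra.smul_def, map_mul, ← hbt i]
    exact lt_of_le_of_lt (mul_le_of_le_one_left' (T.2.1 _)) (hT (bt i))
  have hvalR : ∀ (T : Place kb Kb) (e' : IsLocalRing.ResidueField P.O →ₐ[k] kb), Spec T P e' → ∀ (c : _) (w' : Kb), w' ∈ R →
      val T (lin c + algebraMap K Kb π * w' - algebraMap kb Kb (ev c e')) < 1 := by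
    intro T e' hT c w' hw'
    rw [add_sub_right_comm]
    refine val_add_lt_one (hval T e' hT c) ?_
    rw [map_mul]
    refine lt_of_le_of_lt (mul_le_of_le_one_right' ?_) (hT.val_lt_one (by rw [hπ, ← exp_zero, exp_lt_exp]; omega))
    induction hw' using Submodule.span_induction with
    | mem y hy => obtain ⟨o, rfl⟩ := hy; exact hT.val_le_one o
    | zero => simp
    | add y z _ _ hy hz => exact ((val T).map_add _ _).trans (max_le hy hz)
    | smul r y _ hy => rw [Algebra.smul_def, map_mul]; exact mul_le_one' (T.2.1 _) hy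
  have hRmul : ∀ y ∈ R, ∀ z ∈ R, y * z ∈ R := by
    intro y hy z hz
    have : y * z ∈ Submodule.span kb (Set.range fun o : P.O => algebraMap K Kb (o : K)) *
        Submodule.span kb (Set.range fun o : P.O => algebraMap K Kb (o : K)) := Submodule.mul_mem_mul hy hz
    rw [Submodule.span_mul_span] at this
    refine Submodule.span_mono ?_ this
    rintro _ ⟨_, ⟨o, rfl⟩, _, ⟨o', rfl⟩, rfl⟩
    exact ⟨o * o', by simp⟩
  obtain ⟨cε, hcε⟩ := hsurj (Pi.single e 1)
  have hlinR : ∀ c, lin c ∈ R := fun c => Submodule.sum_mem _ fun i _ => Submodule.smul_mem _ _ (hRmem _)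
  -- one step
  have hstep : ∀ w ∈ R, w ≠ 0 → val S w < 1 → ∃ w' ∈ R, w' ≠ 0 ∧
      S.ord w = S.ord (algebraMap K Kb π) + S.ord w' ∧ S'.ord w = S'.ord (algebraMap K Kb π) + S'.ord w' := by
    intro w hw hw0 hlt
    obtain ⟨c, w₁, hw₁, hwe⟩ := hred w hw
    obtain ⟨c', w', hw', hpe⟩ := hred (lin cε * w) (hRmul _ (hlinR _) _ hw)
    have hzero : ev c e = 0 := eq_zero_of_val_const_lt (S := S) (by
      rw [← sub_sub_cancel w (algebraMap kb Kb (ev c e))]
      exact val_sub_lt_one hlt (hwe ▸ hvalR S e hS c w₁ hw₁))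
    have hc' : c' = 0 := hinj (by
      rw [map_zero]
      funext e'
      obtain ⟨T, hT⟩ := exists_place_spec h hK P e'
      have h1 : val T (lin cε * w - algebraMap kb Kb (ev c' e')) < 1 := hpe ▸ hvalR T e' hT c' w' hw'
      have h2 : val T (lin cε * w - algebraMap kb Kb (ev cε e' * ev c e')) < 1 := by
        have hw1 : val T (w - algebraMap kb Kb (ev c e')) < 1 := hwe ▸ hvalR T e' hT c w₁ hw₁
        rw [map_mul, show lin cε * w - algebraMap kb Kb (ev cε e') * algebraMap kb Kb (ev c e') =
          (lin cε - algebraMap kb Kb (ev cε e')) * w +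
            algebraMap kb Kb (ev cε e') * (w - algebraMap kb Kb (ev c e')) by ring]
        refine val_add_lt_one ?_ ?_ <;> rw [map_mul]
        · refine lt_of_le_of_lt (mul_le_of_le_one_right' ?_) (hval T e' hT cε)
          rw [← sub_add_cancel w (algebraMap kb Kb (ev c e'))]
          exact ((val T).map_add _ _).trans (max_le hw1.le (T.2.1 _))
        · exact lt_of_le_of_lt (mul_le_of_le_one_left' (T.2.1 _)) hw1
      have h3 : ev c' e' = ev cε e' * ev c e' := sub_eq_zero.1 (eq_zero_of_val_const_lt (S := T) (by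
        rw [map_sub]
        rw [show algebraMap kb Kb (ev c' e') - algebraMap kb Kb (ev cε e' * ev c e') =
          (lin cε * w - algebraMap kb Kb (ev cε e' * ev c e')) - (lin cε * w - algebraMap kb Kb (ev c' e')) by ring]
        exact val_sub_lt_one h2 h1))
      rw [h3, hcε, Pi.zero_apply]
      by_cases he : e' = e
      · rw [he, hzero, mul_zero]
      · rw [Pi.single_eq_of_ne he, zero_mul])
    have hone : ∀ T, Spec T P e → lin cε ≠ 0 ∧ T.ord (lin cε) = 0 := by
      intro T hT
      have h1 := hval T e hT cε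
      rw [hcε, Pi.single_eq_same, map_one] at h1
      have hv : val T (lin cε) = 1 := by
        rw [show lin cε = (lin cε - 1) + 1 by ring]
        rw [(val T).map_add_eq_of_lt_right (by rwa [map_one]), map_one]
      refine ⟨fun h0 => by rw [h0, map_zero] at hv; exact zero_ne_one hv, ?_⟩
      exact (ord_eq_of_val_eq T (n := 0) (by rw [hv, exp_zero])).trans neg_zero
    rw [hc', show lin 0 = 0 by simp [lin], zero_add] at hpe
    have hπK : algebraMap K Kb π ≠ 0 := by simpa using hπ0
    have hne : lin cε * w ≠ 0 := mul_ne_zero (hone S hS).1 hw0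
    rw [hpe] at hne
    have hw'0 : w' ≠ 0 := right_ne_zero_of_mul hne
    refine ⟨w', hw', hw'0, ?_, ?_⟩
    · have := congrArg S.ord hpe
      rw [ord_mul S (hone S hS).1 hw0, (hone S hS).2, ord_mul S hπK hw'0] at this
      omega
    · have := congrArg S'.ord hpe
      rw [ord_mul S' (hone S hS).1 hw0, (hone S' hS').2, ord_mul S' hπK hw'0] at this
      omega
  have hp := hS.ord_eq hπ
  have hp' := hS'.ord_eq hπ
  have hmain : ∀ (N : ℕ), ∀ w ∈ R, w ≠ 0 → S.ord w ≤ N →
      ∃ j : ℤ, S.ord w = j * S.ord (algebraMap K Kb π) ∧ S'.ord w = j * S'.ord (algebraMap K Kb π) := by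
    intro N
    induction N using Nat.strong_induction_on with
    | _ N ih =>
      intro w hw hw0 hN
      obtain ⟨c, w₁, hw₁, hwe⟩ := hred w hw
      by_cases hz : ev c e = 0
      · have hlt : val S w < 1 := by
          have := hwe ▸ hvalR S e hS c w₁ hw₁
          rwa [hz, map_zero, sub_zero] at this
        have hpos := (val_lt_one_iff S hw0).1 hlt
        obtain ⟨w', hw', hw'0, h1, h2⟩ := hstep w hw hw0 hlt
        have hnn : 0 ≤ S.ord w' := by
          obtain ⟨c₂, w₂, hw₂, h2e⟩ := hred w' hw'
          refine (val_le_one_iff S hw'0).1 ?_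
          rw [← sub_add_cancel w' (algebraMap kb Kb (ev c₂ e))]
          exact ((val S).map_add _ _).trans (max_le (h2e ▸ hvalR S e hS c₂ w₂ hw₂).le (S.2.1 _))
        obtain ⟨j, hj, hj'⟩ := ih (S.ord w').toNat (by omega) w' hw' hw'0 (by omega)
        exact ⟨j + 1, by rw [h1, hj]; ring, by rw [h2, hj']; ring⟩
      · refine ⟨0, ?_, ?_⟩ <;> rw [zero_mul]
        · have h1 : val S (w - algebraMap kb Kb (ev c e)) < 1 := hwe ▸ hvalR S e hS c w₁ hw₁
          refine (ord_eq_of_val_eq S (n := 0) ?_).trans neg_zero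
          rw [exp_zero, ← sub_add_cancel w (algebraMap kb Kb (ev c e)),
            (val S).map_add_eq_of_lt_right (by rwa [val_const S hz]), val_const S hz]
        · have h1 : val S' (w - algebraMap kb Kb (ev c e)) < 1 := hwe ▸ hvalR S' e hS' c w₁ hw₁
          refine (ord_eq_of_val_eq S' (n := 0) ?_).trans neg_zero
          rw [exp_zero, ← sub_add_cancel w (algebraMap kb Kb (ev c e)),
            (val S').map_add_eq_of_lt_right (by rwa [val_const S' hz]), val_const S' hz]
  -- clearing denominators
  have hden : ∀ z : Kb, ∃ N : ℕ, z * algebraMap K Kb π ^ N ∈ R := by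
    intro z
    have hz := h.mem_span z
    induction hz using Submodule.span_induction with
    | mem y hy =>
      obtain ⟨a, rfl⟩ := hy
      rcases eq_or_ne a 0 with rfl | ha
      · exact ⟨0, by simp⟩
      refine ⟨(-P.ord a).toNat, ?_⟩
      rw [← map_pow, ← map_mul]
      refine hRmem ⟨_, ?_⟩
      show val P (a * π ^ _) ≤ 1
      rw [map_mul, map_pow, hπ, val_eq P ha, ← exp_nsmul, ← exp_add, ← exp_zero, exp_le_exp, nsmul_eq_mul]
      have := Int.self_le_toNat (-P.ord a)
      push_cast; linarith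
    | zero => exact ⟨0, by simp⟩
    | add y z _ _ hy hz =>
      obtain ⟨N, hN⟩ := hy
      obtain ⟨M, hM⟩ := hz
      refine ⟨N + M, ?_⟩
      have hπR : ∀ j : ℕ, algebraMap K Kb π ^ j ∈ R := fun j => by
        rw [← map_pow]
        refine hRmem ⟨π ^ j, ?_⟩
        show val P (π ^ j) ≤ 1
        rw [map_pow, hπ]; exact pow_le_one₀ zero_le (by rw [← exp_zero, exp_le_exp]; omega)
      rw [add_mul]
      refine add_mem ?_ ?_
      · rw [pow_add, ← mul_assoc]; exact hRmul _ hN _ (hπR M)
      · rw [pow_add, mul_comm (_ ^ N), ← mul_assoc]; exact hRmul _ hM _ (hπR N)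
    | smul r y _ hy =>
      obtain ⟨N, hN⟩ := hy
      exact ⟨N, by rw [smul_mul_assoc]; exact Submodule.smul_mem _ r hN⟩
  refine place_eq_of_le_one_iff fun z => ?_
  rcases eq_or_ne z 0 with rfl | hz0
  · simp
  obtain ⟨N, hN⟩ := hden z
  have hπK : algebraMap K Kb π ≠ 0 := by simpa using hπ0
  have hw0 : z * algebraMap K Kb π ^ N ≠ 0 := mul_ne_zero hz0 (pow_ne_zero _ hπK)
  obtain ⟨j, hj, hj'⟩ := hmain (S.ord (z * algebraMap K Kb π ^ N)).toNat _ hN hw0 (Int.self_le_toNat _)
  rw [ord_mul S hz0 (pow_ne_zero _ hπK), ord_pow] at hj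
  rw [ord_mul S' hz0 (pow_ne_zero _ hπK), ord_pow] at hj'
  rw [val_le_one_iff S' hz0, val_le_one_iff S hz0,
    show S.ord z = (j - N) * S.ord (algebraMap K Kb π) by linarith,
    show S'.ord z = (j - N) * S'.ord (algebraMap K Kb π) by linarith,
    mul_nonneg_iff_of_pos_right hp, mul_nonneg_iff_of_pos_right hp']

theorem frobenius_pow_apply {R : Type*} [CommRing R] [Algebra k R] [Fintype k] (m : ℕ) (a : R) :
    (FiniteField.frobeniusAlgHom k R ^ m) a = a ^ Nat.card k ^ m := by
  rw [Nat.card_eq_fintype_card]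
  induction m with
  | zero => simp
  | succ m ih =>
    rw [pow_succ', AlgHom.mul_apply, ih, FiniteField.coe_frobeniusAlgHom]
    show (a ^ Fintype.card k ^ m) ^ Fintype.card k = _
    rw [← pow_mul, ← pow_succ]

theorem forall_pow_eq_iff (hK : IsFunctionField k K) (P : Place k K) (m : ℕ) :
    (∀ a : IsLocalRing.ResidueField P.O, a ^ Nat.card k ^ m = a) ↔ P.deg ∣ m := by
  letI := Fintype.ofFinite k
  have hfin : @Module.Finite k (IsLocalRing.ResidueField P.O) _ _ Algebra.toModule :=
    IsFG.finite_residueField hK.1 P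
  haveI : Finite (IsLocalRing.ResidueField P.O) := Module.finite_of_finite k
  show _ ↔ Module.finrank k (IsLocalRing.ResidueField P.O) ∣ m
  rw [← FiniteField.orderOf_frobeniusAlgHom k (IsLocalRing.ResidueField P.O), orderOf_dvd_iff_pow_eq_one,
    DFunLike.ext_iff]
  exact forall_congr' fun a => by rw [frobenius_pow_apply]; rfl

theorem isFixedPt_iff_of_spec (h : IsBar k K kb Kb) (hK : IsFunctionField k K) {m : ℕ} {τ : Kb →ₐ[kb] Kb}
    (hτ : ∀ a : K, τ (algebraMap K Kb a) = algebraMap K Kb a ^ Nat.card k ^ m) (hS : Spec S P e) :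
    IsFixedPt τ S ↔ P.deg ∣ m := by
  classical
  letI := Fintype.ofFinite k
  obtain ⟨p, hc⟩ := CharP.exists k
  obtain ⟨n, hp, hcard⟩ := FiniteField.card k p
  haveI := Fact.mk hp
  haveI : CharP Kb p := charP_of_injective_algebraMap (algebraMap k Kb).injective p
  haveI : ExpChar Kb p := ExpChar.prime hp
  set Q := Nat.card k ^ m with hQ
  have hQp : Q = p ^ ((n : ℕ) * m) := by rw [hQ, Nat.card_eq_fintype_card, hcard, ← pow_mul]
  have hQ0 : 0 < Q := pow_pos Nat.card_pos m
  have hpow : ∀ (a : K) (c : kb), (algebraMap K Kb a - algebraMap kb Kb c) ^ Q =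
      τ (algebraMap K Kb a) - algebraMap kb Kb (c ^ Q) := fun a c => by
    rw [hτ, hQp, sub_pow_expChar_pow, map_pow]
  have hlt : ∀ o : P.O, val S (τ (algebraMap K Kb (o : K)) - algebraMap kb Kb (e (res P o) ^ Q)) < 1 := fun o => by
    rw [← hpow, map_pow]
    exact pow_lt_one₀ zero_le (hS o) hQ0.ne'
  rw [← forall_pow_eq_iff hK P m]
  constructor
  · intro hfix a
    obtain ⟨o, rfl⟩ := res_surjective P a
    refine e.toRingHom.injective ?_
    show e (res P o ^ Q) = e (res P o)
    rw [map_pow]
    refine sub_eq_zero.1 (eq_zero_of_val_const_lt (S := S) ?_)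
    have h1 := hfix _ (hS o)
    rw [map_sub, AlgHom.commutes] at h1
    rw [map_sub, show algebraMap kb Kb (e (res P o) ^ Q) - algebraMap kb Kb (e (res P o)) =
      (τ (algebraMap K Kb (o : K)) - algebraMap kb Kb (e (res P o))) -
        (τ (algebraMap K Kb (o : K)) - algebraMap kb Kb (e (res P o) ^ Q)) by ring]
    exact val_sub_lt_one h1 (hlt o)
  · intro he z hz
    obtain ⟨π, hπ0, hπ⟩ := exists_val_eq P (-1)
    have hπ1 : val P π < 1 := by rw [hπ, ← exp_zero, exp_lt_exp]; omega
    obtain ⟨S', f, hf, hS'⟩ := exists_place_of_hom (c := kb) (c' := kb) S (τ : Kb →+* Kb)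
      (fun c => by show val S (τ (algebraMap kb Kb c)) ≤ 1; rw [τ.commutes]; exact S.2.1 c)
      (z := algebraMap K Kb π) (by simpa using hπ0) (ne_of_lt (by
        show val S (τ (algebraMap K Kb π)) < 1
        rw [hτ, map_pow]; exact pow_lt_one₀ zero_le (hS.val_lt_one hπ1) hQ0.ne'))
    have hS'e : Spec S' P e := fun o => by
      refine (pow_lt_one_iff hf.ne').1 ?_
      rw [← hS']
      show val S (τ _) < 1
      rw [map_sub, AlgHom.commutes]
      have h2 := hlt o
      rwa [← map_pow, he] at h2
    obtain rfl := spec_unique h hK hS hS'e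
    exact (hS' z).trans_lt (pow_lt_one₀ zero_le hz hf.ne')

variable (k K) in
/-- The number of points with values in the extension of degree `m`. -/
noncomputable def pointSum (m : ℕ) : ℕ :=
  ∑ᶠ P : {P : Place k K // P.deg ∣ m}, P.1.deg

/-- The places fixed by the `m`-th power of Frobenius. -/
theorem natCard_fixed (h : IsBar k K kb Kb) (hK : IsFunctionField k K) {m : ℕ} (hm : 0 < m) {τ : Kb →ₐ[kb] Kb}
    (hτ : ∀ a : K, τ (algebraMap K Kb a) = algebraMap K Kb a ^ Nat.card k ^ m) :
    Finite {S : Place kb Kb // IsFixedPt τ S} ∧ Nat.card {S : Place kb Kb // IsFixedPt τ S} = pointSum k K m := by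
  classical
  haveI : Finite {P : Place k K // P.deg ∣ m} :=
    ((finite_places_deg_le hK.1 m).subset fun P (hP : P.deg ∣ m) => Nat.le_of_dvd hm hP).to_subtype
  letI := Fintype.ofFinite {P : Place k K // P.deg ∣ m}
  have hex := fun (P : {P : Place k K // P.deg ∣ m}) (e : IsLocalRing.ResidueField P.1.O →ₐ[k] kb) =>
    exists_place_spec h hK P.1 e
  choose f hf using hex
  let g : (Σ P : {P : Place k K // P.deg ∣ m}, (IsLocalRing.ResidueField P.1.O →ₐ[k] kb)) →
      {S : Place kb Kb // IsFixedPt τ S} :=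
    fun x => ⟨f x.1 x.2, (isFixedPt_iff_of_spec h hK hτ (hf x.1 x.2)).2 x.1.2⟩
  have hbij : Function.Bijective g := by
    refine ⟨?_, fun ⟨S, hS⟩ => ?_⟩
    · rintro ⟨P, e⟩ ⟨P', e'⟩ heq
      have h1 : f P' e' = f P e := (congrArg Subtype.val heq).symm
      have h2 := hf P' e'
      rw [h1] at h2
      obtain rfl : P' = P := Subtype.ext (spec_unique_right (hf P e) h2)
      rw [spec_unique_emb (hf P' e) h2]
    · obtain ⟨P, e, he⟩ := exists_spec h hK S
      have hd : P.deg ∣ m := (isFixedPt_iff_of_spec h hK hτ he).1 hS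
      have hu : f ⟨P, hd⟩ e = S := spec_unique (P := P) (e := e) h hK he (hf ⟨P, hd⟩ e)
      exact ⟨⟨⟨P, hd⟩, e⟩, Subtype.ext hu⟩
  have hfin : ∀ P : {P : Place k K // P.deg ∣ m},
      @Module.Finite k (IsLocalRing.ResidueField P.1.O) _ _ Algebra.toModule := fun P =>
    IsFG.finite_residueField hK.1 P.1
  haveI : ∀ P : {P : Place k K // P.deg ∣ m}, Finite (IsLocalRing.ResidueField P.1.O →ₐ[k] kb) := fun P => by
    haveI := hfin P
    infer_instance
  refine ⟨Finite.of_equiv _ (Equiv.ofBijective g hbij), ?_⟩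
  rw [← Nat.card_congr (Equiv.ofBijective g hbij), pointSum, finsum_eq_sum_of_fintype, Nat.card_sigma]
  refine Finset.sum_congr rfl fun P _ => ?_
  haveI := hfin P
  rw [Nat.card_eq_fintype_card, AlgHom.card k (IsLocalRing.ResidueField P.1.O) kb]
  rfl

end GrothLib.FunFld.RH
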