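import Groth.Agent.Lib.FunFld.RH.Main

/-!
Point counts and constant-field extensions.
-/

set_option autoImplicit false
set_option linter.style.haveILetI false

namespace GrothLib.FunFld.RH

open _root_.FunFld GrothLib.FunFld
open scoped TensorProduct

theorem LD.ext {f g s : PowerSeries ℂ} (hf : LD f s) (hg : LD g s) (h0f : PowerSeries.constantCoeff f = 1)
    (h0g : PowerSeries.constantCoeff g = 1) : f = g := by
  have hg0 : g ≠ 0 := fun h => by rw [h, map_zero] at h0g; exact zero_ne_one h0g
  have hne : PowerSeries.constantCoeff g ≠ 0 := by rw [h0g]; exact one_ne_zero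
  set h := f * g⁻¹ with hh
  have hfh : f = h * g := by rw [hh, mul_assoc, PowerSeries.inv_mul_cancel g hne, mul_one]
  unfold LD at hf hg
  rw [hfh, Derivation.leibniz, smul_eq_mul, smul_eq_mul] at hf
  have h1 : PowerSeries.X * g * PowerSeries.derivative ℂ h = 0 := by linear_combination hf - h * hg
  have h2 := (mul_eq_zero.1 h1).resolve_left (mul_ne_zero PowerSeries.X_ne_zero hg0)
  have h3 : h = 1 := by
    refine PowerSeries.derivative.ext (by rw [h2, Derivation.map_one_eq_zero]) ?_
    rw [hh, map_mul, PowerSeries.constantCoeff_inv, h0f, h0g, map_one, one_mul, inv_one]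
  rw [hfh, h3, one_mul]

theorem prod_eq_prod_of_pow_sum_eq {ι κ : Type*} [Fintype ι] [Fintype κ] (α : ι → ℂ) (β : κ → ℂ)
    (h : ∀ m : ℕ, 1 ≤ m → ∑ i, α i ^ m = ∑ j, β j ^ m) :
    ((∏ i, (1 - Polynomial.C (α i) * Polynomial.X) : Polynomial ℂ) : PowerSeries ℂ) =
      ((∏ j, (1 - Polynomial.C (β j) * Polynomial.X) : Polynomial ℂ) : PowerSeries ℂ) := by
  rw [← Polynomial.coeToPowerSeries.ringHom_apply, ← Polynomial.coeToPowerSeries.ringHom_apply, map_prod,
    map_prod]
  simp only [map_sub, map_one, map_mul, Polynomial.coeToPowerSeries.ringHom_apply, Polynomial.coe_C, Polynomial.coe_X]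
  have ha := LD.prod (Finset.univ : Finset ι) fun i _ => LD.linear (α i)
  have hb := LD.prod (Finset.univ : Finset κ) fun j _ => LD.linear (β j)
  refine LD.ext ha (cast (congrArg (LD _) ?_) hb) ?_ ?_
  · ext n
    simp only [map_sum, map_neg, PowerSeries.coeff_mk, Finset.sum_neg_distrib]
    rcases n with _ | n
    · simp
    · simp only [if_neg (Nat.succ_ne_zero n)]; rw [h _ (Nat.succ_pos n)]
  · simp
  · simp

/-- Point counts of a constant-field extension. -/
theorem pointSum_constExt {k K k' K' : Type*} [Field k] [Finite k] [Field K] [Algebra k K] [Field k'] [Finite k']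
    [Field K'] [Algebra k k'] [Algebra K K'] [Algebra k' K'] (hK : IsFunctionField k K)
    (hK' : IsFunctionField k' K') (hce : IsConstExt k K k' K') {m : ℕ} (hm : 0 < m) :
    pointSum k' K' m = pointSum k K (Module.finrank k k' * m) := by
  classical
  obtain ⟨hc, hadj, -⟩ := hce
  haveI : Module.Finite k k' := Module.Finite.of_finite
  let kb := AlgebraicClosure k'
  haveI : Algebra.IsAlgebraic k kb := Algebra.IsAlgebraic.trans k k' kb
  have hgeom := isGeometric_of_perfectField hK'
  have hField := isField_tensor (k := k') (K := K') (kb := kb) hgeom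
  letI : Field (kb ⊗[k'] K') := hField.toField
  letI : Algebra K' (kb ⊗[k'] K') := Algebra.TensorProduct.rightAlgebra
  letI : Algebra K (kb ⊗[k'] K') := ((algebraMap K' (kb ⊗[k'] K')).comp (algebraMap K K')).toAlgebra
  haveI : IsScalarTower k' K' (kb ⊗[k'] K') := IsScalarTower.of_algebraMap_eq fun c =>
    ((Algebra.TensorProduct.includeRight (R := k') (A := kb) (B := K')).commutes c).symm
  haveI : IsScalarTower k K (kb ⊗[k'] K') := IsScalarTower.of_algebraMap_eq fun c => by
    show algebraMap k (kb ⊗[k'] K') c = algebraMap K' (kb ⊗[k'] K') (algebraMap K K' (algebraMap k K c))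
    rw [hc, IsScalarTower.algebraMap_apply k kb (kb ⊗[k'] K'), ← IsScalarTower.algebraMap_apply k' K' (kb ⊗[k'] K'),
      IsScalarTower.algebraMap_apply k k' kb, ← IsScalarTower.algebraMap_apply k' kb (kb ⊗[k'] K')]
  have htop' : IntermediateField.adjoin kb (Set.range (algebraMap K' (kb ⊗[k'] K'))) = ⊤ := by
    refine top_le_iff.1 fun z _ => ?_
    induction z using TensorProduct.induction_on with
    | zero => exact zero_mem _
    | tmul a b =>
      rw [show a ⊗ₜ[k'] b = algebraMap kb (kb ⊗[k'] K') a * algebraMap K' (kb ⊗[k'] K') b by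
        show _ = (a ⊗ₜ[k'] (1 : K')) * ((1 : kb) ⊗ₜ[k'] b)
        rw [Algebra.TensorProduct.tmul_mul_tmul, one_mul, mul_one]]
      exact mul_mem (IntermediateField.algebraMap_mem _ _) (IntermediateField.subset_adjoin _ _ ⟨b, rfl⟩)
    | add a b ha hb => exact add_mem (ha trivial) (hb trivial)
  have htop : IntermediateField.adjoin kb (Set.range (algebraMap K (kb ⊗[k'] K'))) = ⊤ := by
    rw [eq_top_iff, ← htop', IntermediateField.adjoin_le_iff]
    rintro _ ⟨b, rfl⟩
    have hb : b ∈ Algebra.adjoin K (Set.range (algebraMap k' K')) := hadj ▸ Algebra.mem_top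
    induction hb using Algebra.adjoin_induction with
    | mem w hw =>
      obtain ⟨c, rfl⟩ := hw
      rw [← IsScalarTower.algebraMap_apply k' K', IsScalarTower.algebraMap_apply k' kb (kb ⊗[k'] K')]
      exact IntermediateField.algebraMap_mem _ _
    | algebraMap a => exact IntermediateField.subset_adjoin _ _ ⟨a, rfl⟩
    | add x y _ _ hx hy => rw [map_add]; exact add_mem hx hy
    | mul x y _ _ hx hy => rw [map_mul]; exact mul_mem hx hy
  have hbar := isBar_of_adjoin (k := k) (isGeometric_of_perfectField hK) htop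
  have hbar' := isBar_of_adjoin (k := k') hgeom htop'
  set n := Module.finrank k k' with hn
  have hn0 : 0 < n := Module.finrank_pos
  have hQ : Nat.card k ^ (n * m) = Nat.card k' ^ m := by rw [Module.natCard_eq_pow_finrank (K := k) (V := k'), pow_mul]
  obtain ⟨τ, hτ⟩ := hbar.exists_tau (n * m)
  letI := Fintype.ofFinite k'
  obtain ⟨p, hp⟩ := CharP.exists k'
  obtain ⟨d, hpp, hcard⟩ := FiniteField.card k' p
  haveI := Fact.mk hpp
  haveI : CharP (kb ⊗[k'] K') p := charP_of_injective_algebraMap (algebraMap k' (kb ⊗[k'] K')).injective p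
  haveI : ExpChar (kb ⊗[k'] K') p := ExpChar.prime hpp
  have hQp : Nat.card k' ^ m = p ^ ((d : ℕ) * m) := by rw [Nat.card_eq_fintype_card, hcard, ← pow_mul]
  have hτ' : ∀ b : K', τ (algebraMap K' (kb ⊗[k'] K') b) = algebraMap K' (kb ⊗[k'] K') b ^ Nat.card k' ^ m := by
    intro b
    have hb : b ∈ Algebra.adjoin K (Set.range (algebraMap k' K')) := hadj ▸ Algebra.mem_top
    induction hb using Algebra.adjoin_induction with
    | mem w hw =>
      obtain ⟨c, rfl⟩ := hw
      rw [← map_pow, ← map_pow, Nat.card_eq_fintype_card, FiniteField.pow_card_pow,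
        ← IsScalarTower.algebraMap_apply k' K', IsScalarTower.algebraMap_apply k' kb (kb ⊗[k'] K')]
      exact τ.commutes _
    | algebraMap a => rw [← hQ]; exact hτ a
    | add x y _ _ hx hy => rw [map_add, map_add, hx, hy, hQp, add_pow_expChar_pow]
    | mul x y _ _ hx hy => rw [map_mul, map_mul, hx, hy, mul_pow]
  exact (natCard_fixed hbar' hK' hm hτ').2.symm.trans (natCard_fixed hbar hK (Nat.mul_pos hn0 hm) hτ).2

end GrothLib.FunFld.RH
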