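import Groth.Agent.Lib.FunFld.GaloisPlaces
import Groth.Agent.Lib.FunFld.RH.Bar
import Groth.Agent.S11053
import Groth.Prelude.Def_W4bk4goldsch45p2

/-!
Fixed points of twisted endomorphisms in a Galois extension, and the bound for each of them.
-/

set_option autoImplicit false
set_option linter.style.haveILetI false
set_option linter.unusedSectionVars false

namespace GrothLib.FunFld.RH

open _root_.FunFld GrothLib.FunFld WithZero

section bound

variable {kb Kb : Type*} [Field kb] [IsAlgClosed kb] [Field Kb] [Algebra kb Kb]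

/-- The bound for an endomorphism all of whose values are `n²`-th powers. -/
theorem card_fixed_le (hK : IsFunctionField kb Kb) {n : ℕ} (hn : genus kb Kb < n) (hn2 : 2 ≤ n)
    (τ : Kb →ₐ[kb] Kb) (hdeg : Module.finrank τ.fieldRange Kb = n * n)
    (hpow : ∀ y, ∃ y', τ y = y' ^ (n * n)) (σ : Kb ≃ₐ[kb] Kb) :
    Finite {P : Place kb Kb // IsFixedPt ((σ : Kb →ₐ[kb] Kb).comp τ) P} ∧
    (Nat.card {P : Place kb Kb // IsFixedPt ((σ : Kb →ₐ[kb] Kb).comp τ) P} : ℝ) ≤
      1 + (n : ℝ) * n + (2 * (genus kb Kb : ℝ) + 2 * (genus kb Kb : ℝ) ^ 3) * n := by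
  set ρ := (σ : Kb →ₐ[kb] Kb).comp τ
  have hρdeg : Module.finrank ρ.fieldRange Kb = n * n := by
    have h1 : ρ.fieldRange = τ.fieldRange.map (σ : Kb →ₐ[kb] Kb) :=
      (AlgHom.map_fieldRange τ (σ : Kb →ₐ[kb] Kb)).symm
    have h2 : (⊤ : IntermediateField kb Kb).map (σ : Kb →ₐ[kb] Kb) = ⊤ :=
      top_unique fun z _ => ⟨σ.symm z, IntermediateField.mem_top, σ.apply_symm_apply z⟩
    rw [h1, ← IntermediateField.relfinrank_top_right, ← h2, IntermediateField.relfinrank_map_map,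
      IntermediateField.relfinrank_top_right, hdeg]
  have hset : {P : Place kb Kb | IsFixedPt ρ P} =
      {P : Place kb Kb | ∀ z : Kb, P.1 z < 1 → P.1 (ρ z) ≤ WithZero.exp (-2)} := by
    ext P
    refine ⟨fun h z hz => ?_, fun h z hz => (h z hz).trans_lt (by rw [← exp_zero, exp_lt_exp]; omega)⟩
    obtain ⟨y', hy'⟩ := hpow z
    have h1 : val P (σ y') ^ (n * n) < 1 := by
      rw [← map_pow, ← map_pow σ, ← hy']; exact h z hz
    have h2 : val P (σ y') < 1 := (pow_lt_one_iff (by positivity)).1 h1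
    show val P (σ (τ z)) ≤ _
    rw [hy', map_pow σ, map_pow]
    have h3 : val P (σ y') ≤ exp (-1) := by
      rw [show (-1 : ℤ) = 0 - 1 by ring, le_exp_sub_one_iff, exp_zero]; exact h2
    refine (pow_le_pow_left₀ zero_le h3 _).trans ?_
    rw [← exp_nsmul, exp_le_exp, nsmul_eq_mul]
    push_cast
    nlinarith
  obtain ⟨hfin, hle⟩ := Groth.Agent.S11053.result kb Kb hK ρ n hn
  rw [← hset] at hfin hle
  refine ⟨hfin.to_subtype, ?_⟩
  rw [show Nat.card {P : Place kb Kb // IsFixedPt ρ P} = Set.ncard {P : Place kb Kb | IsFixedPt ρ P} from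
    Nat.card_coe_set_eq _]
  refine hle.trans ?_
  rw [hρdeg]
  set g : ℝ := (genus kb Kb : ℝ)
  have hg : 0 ≤ g := Nat.cast_nonneg _
  have hn' : (1 : ℝ) ≤ n := by exact_mod_cast (show 1 ≤ n by omega)
  push_cast
  have h4 : ((n : ℝ) * n) / n = n := by field_simp
  have h5 : 2 * g ^ 2 * (g - 1) / n ≤ 2 * g ^ 3 * n := by
    rw [div_le_iff₀ (by linarith)]
    nlinarith [mul_nonneg (pow_nonneg hg 3) (sub_nonneg.2 hn'), sq_nonneg g,
      mul_nonneg (pow_nonneg hg 3) (mul_nonneg (sub_nonneg.2 hn') (by linarith : (0 : ℝ) ≤ (n : ℝ) + 1))]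
  rw [h4]
  nlinarith

end bound

section count

variable {kb M Lb : Type*} [Field kb] [Field M] [Field Lb] [Algebra kb M] [Algebra M Lb]
  [Algebra kb Lb] [IsScalarTower kb M Lb] [FiniteDimensional M Lb] [IsGalois M Lb]

theorem place_eq_of_lt_one {F : Type*} [Field F] [Algebra kb F] {P Q : Place kb F}
    (h : ∀ z, val P z < 1 → val Q z < 1) : Q = P := by
  by_contra hne
  obtain ⟨x, hx1, hx2⟩ := exists_le_one_and_one_lt hne
  have h3 := h x⁻¹ (by rw [map_inv₀]; exact inv_lt_one_of_one_lt₀ hx2)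
  rw [map_inv₀] at h3
  rcases eq_or_ne x 0 with rfl | hx0
  · simp at hx2
  exact absurd ((inv_lt_one₀ (zero_lt_iff.2 ((val Q).ne_zero_iff.2 hx0))).1 h3) (not_lt.2 hx1)

theorem mapPlace_mul (a b : Lb ≃ₐ[M] Lb) (Q : Place kb Lb) : mapPlace (a * b) Q = mapPlace a (mapPlace b Q) :=
  Subtype.ext (Valuation.ext fun _ => rfl)

theorem natCard_fixers [IsAlgClosed kb] (hM : IsFG kb M) (τ : Lb →ₐ[kb] Lb) (τM : M →ₐ[kb] M)
    (hτM : ∀ a, τ (algebraMap M Lb a) = algebraMap M Lb (τM a))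
    (hcomm : ∀ (σ : Lb ≃ₐ[M] Lb) (z : Lb), σ (τ z) = τ (σ z)) {R : Place kb M} (hR : IsFixedPt τM R)
    {P : Place kb Lb} (hP : IsOver P R) :
    Nat.card {σ : Lb ≃ₐ[M] Lb // IsFixedPt ((σ.restrictScalars kb : Lb →ₐ[kb] Lb).comp τ) P} =
      Nat.card ((P.O).decompositionSubgroup M) := by
  obtain ⟨e, he⟩ := hP
  have hlift : ∀ a, val R a < 1 → val P (algebraMap M Lb a) < 1 := fun a ha => by
    rw [show val P (algebraMap M Lb a) = _ from he a]
    exact pow_lt_one₀ zero_le ha (pos_of_isOverWith he).ne'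
  obtain ⟨π, hπ0, hπ⟩ := exists_val_eq R (-1)
  have hπ1 : val R π < 1 := by rw [hπ, ← exp_zero, exp_lt_exp]; omega
  obtain ⟨P', f, hf, hP'⟩ := exists_place_of_hom (c := kb) (c' := kb) P (τ : Lb →+* Lb)
    (fun c => by show val P (τ (algebraMap kb Lb c)) ≤ 1; rw [τ.commutes]; exact P.2.1 c)
    (z := algebraMap M Lb π) (by simpa using hπ0)
    (ne_of_lt (by show val P (τ _) < 1; rw [hτM]; exact hlift _ (hR π hπ1)))
  have hP'R : IsOver P' R := by
    obtain ⟨R', e', he'0, he'⟩ := exists_isOverWith (K := M) P'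
    have : R' = R := place_eq_of_lt_one fun a ha => by
      have h1 : val P' (algebraMap M Lb a) ^ f < 1 := by
        rw [← hP']; show val P (τ _) < 1; rw [hτM]; exact hlift _ (hR a ha)
      rw [pow_lt_one_iff hf.ne', show val P' (algebraMap M Lb a) = _ from he' a, pow_lt_one_iff he'0.ne'] at h1
      exact h1
    exact this ▸ ⟨e', he'⟩
  have hiff : ∀ σ : Lb ≃ₐ[M] Lb,
      IsFixedPt ((σ.restrictScalars kb : Lb →ₐ[kb] Lb).comp τ) P ↔ mapPlace σ.symm P' = P := by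
    intro σ
    have hkey : ∀ z, val P (σ (τ z)) < 1 ↔ val (mapPlace σ.symm P') z < 1 := fun z => by
      rw [val_mapPlace, AlgEquiv.symm_symm, hcomm, show val P (τ (σ z)) = _ from hP' (σ z), pow_lt_one_iff hf.ne']
    exact ⟨fun h => place_eq_of_lt_one fun z hz => (hkey z).1 (h z hz), fun h z hz =>
      (hkey z).2 (h.symm ▸ hz)⟩
  obtain ⟨ρ₀, hρ₀⟩ := exists_mapPlace_eq (K := M) hP'R ⟨e, he⟩
  refine Nat.card_congr
    { toFun := fun σ => ⟨σ.1.symm * ρ₀⁻¹, (mem_decomposition_iff _ P).2 (by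
        refine (congrArg (mapPlace (σ.1.symm * ρ₀⁻¹)) hρ₀.symm).trans ((mapPlace_mul _ _ _).symm.trans ?_)
        rw [inv_mul_cancel_right]
        exact (hiff σ.1).1 σ.2)⟩
      invFun := fun g => ⟨((g : Lb ≃ₐ[M] Lb) * ρ₀).symm, (hiff _).2 (by
        rw [AlgEquiv.symm_symm, mapPlace_mul, hρ₀, (mem_decomposition_iff _ P).1 g.2])⟩
      left_inv := fun σ => Subtype.ext (by simp)
      right_inv := fun g => Subtype.ext (by simp) }

/-- The sum over the Galois group of the numbers of fixed points. -/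
theorem sum_fixed [IsAlgClosed kb] (hM : IsFG kb M) (τ : Lb →ₐ[kb] Lb) (τM : M →ₐ[kb] M)
    (hτM : ∀ a, τ (algebraMap M Lb a) = algebraMap M Lb (τM a))
    (hcomm : ∀ (σ : Lb ≃ₐ[M] Lb) (z : Lb), σ (τ z) = τ (σ z)) [Fintype (Lb ≃ₐ[M] Lb)]
    (hfin : ∀ σ : Lb ≃ₐ[M] Lb,
      Finite {P : Place kb Lb // IsFixedPt ((σ.restrictScalars kb : Lb →ₐ[kb] Lb).comp τ) P})
    [Finite {R : Place kb M // IsFixedPt τM R}] :
    ∑ σ : Lb ≃ₐ[M] Lb, Nat.card {P : Place kb Lb // IsFixedPt ((σ.restrictScalars kb : Lb →ₐ[kb] Lb).comp τ) P} =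
      Module.finrank M Lb * Nat.card {R : Place kb M // IsFixedPt τM R} := by
  classical
  letI := Fintype.ofFinite {R : Place kb M // IsFixedPt τM R}
  have hfib : ∀ R : Place kb M, Finite {P : Place kb Lb // IsOver P R} := fun R =>
    (sum_ramIdx (K' := Lb) hM R).1.to_subtype
  have hover : ∀ (σ : Lb ≃ₐ[M] Lb) (P : Place kb Lb),
      IsFixedPt ((σ.restrictScalars kb : Lb →ₐ[kb] Lb).comp τ) P → ∃ R, IsOver P R ∧ IsFixedPt τM R := by
    intro σ P hP
    obtain ⟨R, e, he, hPR⟩ := exists_isOverWith (K := M) P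
    refine ⟨R, ⟨e, hPR⟩, fun a ha => ?_⟩
    have h1 := hP (algebraMap M Lb a) (by
      rw [show P.1 (algebraMap M Lb a) = _ from hPR a]; exact pow_lt_one₀ zero_le ha he.ne')
    change val P (σ (τ (algebraMap M Lb a))) < 1 at h1
    rw [hτM, AlgEquiv.commutes, show val P (algebraMap M Lb (τM a)) = _ from hPR _, pow_lt_one_iff he.ne'] at h1
    exact h1
  let g : (Σ R : {R : Place kb M // IsFixedPt τM R}, Σ P : {P : Place kb Lb // IsOver P R.1},
      {σ : Lb ≃ₐ[M] Lb // IsFixedPt ((σ.restrictScalars kb : Lb →ₐ[kb] Lb).comp τ) P.1}) →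
      Σ σ : Lb ≃ₐ[M] Lb, {P : Place kb Lb // IsFixedPt ((σ.restrictScalars kb : Lb →ₐ[kb] Lb).comp τ) P} :=
    fun x => ⟨x.2.2.1, x.2.1.1, x.2.2.2⟩
  have hbij : Function.Bijective g := by
    refine ⟨?_, fun ⟨σ, P, hP⟩ => ?_⟩
    · rintro ⟨⟨R, hR⟩, ⟨P, hPR⟩, ⟨σ, hσ⟩⟩ ⟨⟨R', hR'⟩, ⟨P', hPR'⟩, ⟨σ', hσ'⟩⟩ heq
      have h1 : σ = σ' := congrArg Sigma.fst heq
      subst h1
      have h2 : P = P' := congrArg Subtype.val (eq_of_heq (Sigma.mk.inj_iff.1 heq).2)
      subst h2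
      obtain ⟨e, he⟩ := hPR
      obtain ⟨e', he'⟩ := hPR'
      obtain rfl := (isOverWith_unique he he').1
      rfl
    · obtain ⟨R, hPR, hR⟩ := hover σ P hP
      exact ⟨⟨⟨R, hR⟩, ⟨P, hPR⟩, σ, hP⟩, rfl⟩
  rw [← Nat.card_sigma, ← Nat.card_congr (Equiv.ofBijective g hbij), Nat.card_sigma,
    Nat.card_eq_fintype_card, mul_comm, ← smul_eq_mul, ← Finset.card_univ, ← Finset.sum_const]
  refine Finset.sum_congr rfl fun R _ => ?_
  haveI := hfib R.1
  letI := Fintype.ofFinite {P : Place kb Lb // IsOver P R.1}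
  rw [Nat.card_sigma, Finset.sum_congr rfl fun P _ => natCard_fixers hM τ τM hτM hcomm R.2 P.2]
  have hP : ∀ P : {P : Place kb Lb // IsOver P R.1},
      Nat.card {P : Place kb Lb // IsOver P R.1} * Nat.card ((P.1.O).decompositionSubgroup M) =
        Module.finrank M Lb := fun P => by
    obtain ⟨e, he⟩ := P.2
    exact card_fibre_mul_card_decomposition he
  have hpos : 0 < Nat.card {P : Place kb Lb // IsOver P R.1} := by
    obtain ⟨hfin', hsum⟩ := sum_ramIdx (K' := Lb) hM R.1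
    have := hsum hfin'.toFinset fun Q => hfin'.mem_toFinset
    have hne : hfin'.toFinset.Nonempty := by
      by_contra h
      rw [Finset.not_nonempty_iff_eq_empty] at h
      rw [h, Finset.sum_empty] at this
      exact absurd this (Nat.mul_pos Module.finrank_pos (IsFG.deg_pos hM _)).ne
    obtain ⟨Q, hQ⟩ := hne
    haveI : Nonempty {P : Place kb Lb // IsOver P R.1} := ⟨⟨Q, hfin'.mem_toFinset.1 hQ⟩⟩
    exact Nat.card_pos
  refine Nat.eq_of_mul_eq_mul_left hpos ?_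
  rw [Finset.mul_sum, Finset.sum_congr rfl fun P _ => hP P, Finset.sum_const, Finset.card_univ,
    ← Nat.card_eq_fintype_card, smul_eq_mul]

end count

end GrothLib.FunFld.RH
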